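import Groth.Agent.Etbc.H184.BCStrictSh
import Groth.Agent.Etbc.H235.DescSec

/-!
# Degree zero base change for sheaves of sets from sections over the strict localizations

`isIso_baseChange0Sh_of_sec` : if for every geometric point `ξ` of `X` the comparison
`P : Y ×_X Spec O_X^sh ⟶ T ×_S Spec O_S^sh` is bijective on global sections of all sheaves of sets, then
the degree zero base change map for sheaves of sets is an isomorphism.
-/

set_option autoImplicit false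
set_option backward.isDefEq.respectTransparency.types false
universe u
open CategoryTheory CategoryTheory.Limits AlgebraicGeometry Opposite

namespace K3.BCStrictSec

open Groth.Agent Groth.Agent.Etbc Groth.Agent.Etbc.H184
open EtDesc Groth.Agent.Etbc.H184.FamSh Groth.Agent.EtpbcB.StrictLoc Groth.Agent.EtpbcB.Psi
open Groth.Agent.EtpbcB.BCCrit (kap kap_hom kap_fst theta)
open Groth.Agent.EtpbcB.BCStrict (kap_comp kap_comp' exists_fibre P P_fst P_snd P_fst_assoc P_snd_assoc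
  isPullback_P LX LX_fst LX_hom LX_kap LX_map exists_common tau connected_P)
open Groth.Agent.EtpbcB.Big (etHom et_hom_ext et_w exists_lift bcFst bc_condition hom_ext_bc bcPt bcPt_fst
  bcPt_hom bc_map_fst)
open Groth.Agent.Sga4A.EtStalk (exists_geomPoint germ pullStk' germTop_secPull' secPull_ext)
open Groth.Agent.Etbc.H184.BCStrictSh (res_eq_res res_comp_congr)

variable {X S Y T : Scheme.{u}} {f : X ⟶ S} {g : T ⟶ S} {h : Y ⟶ X} {e : Y ⟶ T}

/-- Bijectivity on global sections of all sheaves of sets. -/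
def SB {Z Z' : Scheme.{u}} (p : Z' ⟶ Z) : Prop := ∀ G : Sh Z, Function.Bijective (secPull p G)

/-- Local families descend along `p`. -/
theorem exists_of_SB {X : Scheme.{u}} {F : Sh X} {Z Z' : Scheme.{u}} (p : Z' ⟶ Z) (hb : SB p)
    {q : Z ⟶ X} {q' : Z' ⟶ X} (hp : p ≫ q = q') (v : Fam F q')
    (hv : IsLoc v) : ∃ v' : Fam F q, IsLoc v' ∧ v'.res p hp = v := by
  subst hp
  let G := (pullSh q).obj F
  let γ := toFam v hv
  obtain ⟨s', hs'⟩ := Groth.Agent.Sga4A.EtStalk.Fam.exists_topSect (F := G) (g := p) γ.toPull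
  obtain ⟨s, hs⟩ := (hb G).2 s'
  refine ⟨ofFam (Groth.Agent.Sga4A.EtStalk.Fam.ofTopSect s), isLoc_ofFam _, ?_⟩
  ext Ω _ _ z ξ h'
  have h : (z ≫ p) ≫ q = ξ := by rw [Category.assoc, h']
  have key : (Groth.Agent.Sga4A.EtStalk.Fam.ofTopSect s).val (z ≫ p) ξ h = γ.val z ξ h' := by
    apply (pullStk' q F (z ≫ p) ξ h).injective
    rw [Groth.Agent.Sga4A.EtStalk.Fam.ofTopSect_val s (z ≫ p) ξ h]
    apply (pullStk' p G z (z ≫ p) rfl).injective
    rw [← germTop_secPull' p G s z (z ≫ p) rfl, hs, hs' z (z ≫ p) rfl,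
      Groth.Agent.Sga4A.EtStalk.Fam.toPull_val γ z (z ≫ p) ξ rfl h h']
  exact key

/-- Local families are determined by their restriction along `p`. -/
theorem eq_of_SB {X : Scheme.{u}} {F : Sh X} {Z Z' : Scheme.{u}} (p : Z' ⟶ Z) (hb : SB p)
    {q : Z ⟶ X} {q' : Z' ⟶ X} (hp : p ≫ q = q') {v w : Fam F q} (hv : IsLoc v) (hw : IsLoc w)
    (h : v.res p hp = w.res p hp) : v = w := by
  subst hp
  let G := (pullSh q).obj F
  obtain ⟨s, hs⟩ := Groth.Agent.Sga4A.EtStalk.Fam.exists_topSect (g := q) (toFam v hv)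
  obtain ⟨t, ht⟩ := Groth.Agent.Sga4A.EtStalk.Fam.exists_topSect (g := q) (toFam w hw)
  have hst : s = t := by
    apply (hb G).1
    refine secPull_ext _ _ _ fun Ω _ _ z => ?_
    rw [germTop_secPull' p G s z (z ≫ p) rfl, germTop_secPull' p G t z (z ≫ p) rfl,
      hs (z ≫ p) ((z ≫ p) ≫ q) rfl, ht (z ≫ p) ((z ≫ p) ≫ q) rfl]
    have h1 := Fam.congr_fun h z (ξ := (z ≫ p) ≫ q) (by rw [Category.assoc])
    exact congrArg _ (congrArg _ h1)
  ext Ω _ _ l ξ hl
  have h1 := hs l ξ hl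
  have h2 := ht l ξ hl
  rw [hst, h2] at h1
  exact ((pullStk' q F l ξ hl).injective h1).symm

section Core

variable {Ω : Type u} [Field Ω] [IsSepClosed Ω] (ξ : Spec (CommRingCat.of Ω) ⟶ X)
variable (H : IsPullback e h g f) (F : Sh T)

/-- A local family on `Y ×_X U` comes, near a given point of `U`, from a section over `T ×_S V`. -/
theorem hsurj_sec [QuasiCompact g] [QuasiSeparated g] (hSB : SB (P ξ H))
    (U : X.Etale) (v : Fam F (((EtCoh.bc h).obj U).hom ≫ e)) (hv : IsLoc v)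
    (l : Spec (CommRingCat.of Ω) ⟶ U.left) (hl : l ≫ U.hom = ξ) :
    ∃ (V : S.Etale) (U' : X.Etale) (a : U' ⟶ U) (b : U' ⟶ (EtCoh.bc f).obj V)
        (σ : sect F ((EtCoh.bc g).obj V)) (y' : U'.left), a.left y' = l default ∧
        v.res ((EtCoh.bc h).map a).left (by rw [← Category.assoc, et_w]) =
          (fam σ).res (kap g f h e H.w b) (kap_hom g f h e H.w b) := by
  have hqc : QuasiCompact h := MorphismProperty.of_isPullback (P := @QuasiCompact) H ‹_›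
  have hqs : QuasiSeparated h := MorphismProperty.of_isPullback (P := @QuasiSeparated) H ‹_›
  obtain ⟨i₁, m, hm⟩ := exists_dom ξ U l hl
  -- the restriction to `Y ×_X Spec O_X^sh`
  have eA : (LX ξ h i₁ ≫ ((EtCoh.bc h).map m).left) ≫ ((EtCoh.bc h).obj U).hom ≫ e =
      pullback.fst h (toBase ξ) ≫ e := by
    rw [← Category.assoc, Category.assoc (LX ξ h i₁), et_w, LX_hom]
  obtain ⟨vS, hvS, hvS'⟩ := exists_of_SB (P ξ H) hSB
    (P_fst ξ H) (v.res _ eA) (hv.res _ eA)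
  obtain ⟨j, v', hv', hvv'⟩ := LimSecSh.exists_ext
    (coneX (ξ ≫ f) g (IsPullback.of_hasPullback g (toBase (ξ ≫ f))))
    (isLimitConeX (ξ ≫ f) g (IsPullback.of_hasPullback g (toBase (ξ ≫ f))))
    (tau (ξ ≫ f) g) (fun j => LX_hom (ξ ≫ f) j) hvS
  obtain ⟨σ, hσ⟩ := exists_fam (U := (EtCoh.bc g).obj ((D (ξ ≫ f)).obj j)) v' hv'
  -- a common étale neighbourhood of `ξ`
  obtain ⟨l₂, hl₂, hl₂'⟩ : ∃ l₂ : Spec (CommRingCat.of Ω) ⟶
        ((EtCoh.bc f).obj ((D (ξ ≫ f)).obj j)).left,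
      l₂ ≫ bcFst f ((D (ξ ≫ f)).obj j) = lft (ξ ≫ f) j ∧
      l₂ ≫ ((EtCoh.bc f).obj ((D (ξ ≫ f)).obj j)).hom = ξ :=
    ⟨bcPt f ξ (lft (ξ ≫ f) j) (lft_hom _ _), bcPt_fst f _ _ _, bcPt_hom f _ _ _⟩
  obtain ⟨i₂, n, n', hn, hn'⟩ :=
    exists_common ξ U ((EtCoh.bc f).obj ((D (ξ ≫ f)).obj j)) l hl l₂ hl₂'
  have hn2 : lft ξ i₂ ≫ n'.left ≫ bcFst f ((D (ξ ≫ f)).obj j) =
      lft (ξ ≫ f) j ≫ (𝟙 ((D (ξ ≫ f)).obj j) : _ ⟶ _).left := by
    refine Eq.trans ?_ (Category.comp_id _).symm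
    rw [← hl₂, ← hn', Category.assoc]
  have hagree : (v.res ((EtCoh.bc h).map n).left (q' := ((EtCoh.bc h).obj ((D ξ).obj i₂)).hom ≫ e)
      (by rw [← Category.assoc, et_w])).res (LX ξ h i₂) rfl =
      ((fam σ).res (kap g f h e H.w n') (kap_hom g f h e H.w n')).res (LX ξ h i₂) rfl := by
    have e1 : LX ξ h i₂ ≫ kap g f h e H.w n' = P ξ H ≫ LX (ξ ≫ f) g j := by
      rw [LX_kap ξ H n' (𝟙 _) hn2]
      refine congrArg (P ξ H ≫ ·) ?_
      rw [CategoryTheory.Functor.map_id]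
      exact Category.comp_id _
    have e2 : LX ξ h i₂ ≫ ((EtCoh.bc h).map n).left = LX ξ h i₁ ≫ ((EtCoh.bc h).map m).left :=
      LX_map ξ n m (hn.trans hm.symm)
    have e3 : v.res (LX ξ h i₁ ≫ ((EtCoh.bc h).map m).left) eA =
      (fam σ).res (P ξ H ≫ LX (ξ ≫ f) g j) (by
        rw [Category.assoc, LX_hom, P_fst]) := by
      rw [← hvS', ← hvv', hσ]
      ext Ω _ _ l ξ hl
      exact v'.congr (Category.assoc _ _ _) _
    ext Ω' _ _ l' ξ' hl''
    have h1 := Fam.congr_fun e3 l' (ξ := ξ') (by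
      rw [← hl'', ← Category.assoc (LX ξ h i₂), LX_hom])
    refine (v.congr ?_ _).trans (h1.trans ((fam σ).congr ?_ _))
    · rw [Category.assoc, e2]
    · rw [Category.assoc, e1]
  obtain ⟨i₃, g₃, hg₃⟩ := LimSecSh.exists_agree
    (coneX ξ h (IsPullback.of_hasPullback h (toBase ξ)))
    (isLimitConeX ξ h (IsPullback.of_hasPullback h (toBase ξ)))
    (hv.res _ _) ((isLoc_fam σ).res _ _) hagree
  refine ⟨(D (ξ ≫ f)).obj j, (D ξ).obj i₃, (D ξ).map g₃ ≫ n, (D ξ).map g₃ ≫ n', σ,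
    lft ξ i₃ default, ?_, ?_⟩
  · have h1 : lft ξ i₃ ≫ ((D ξ).map g₃ ≫ n).left = l := by
      rw [← hn, ← lft_map ξ g₃, Category.assoc]
      rfl
    rw [← h1]
    rfl
  · exact res_eq_res hg₃ _ _ (by rw [Functor.map_comp]; rfl) (kap_comp H.w _ _).symm

/-- Local injectivity of the base change map. -/
theorem hinj_sec [QuasiCompact g] [QuasiSeparated g]
    (hSB : SB (P ξ H))
    (V : S.Etale) (σ τ : sect F ((EtCoh.bc g).obj V)) (U : X.Etale)
    (b : U ⟶ (EtCoh.bc f).obj V)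
    (hσ : (fam σ).res (kap g f h e H.w b) (kap_hom g f h e H.w b) =
        (fam τ).res (kap g f h e H.w b) (kap_hom g f h e H.w b))
    (l : Spec (CommRingCat.of Ω) ⟶ U.left) (hl : l ≫ U.hom = ξ) :
    ∃ (V' : S.Etale) (c : V' ⟶ V) (U' : X.Etale) (a : U' ⟶ U)
        (b' : U' ⟶ (EtCoh.bc f).obj V') (y' : U'.left), a.left y' = l default ∧
        a ≫ b = b' ≫ (EtCoh.bc f).map c ∧
        F.obj.map ((EtCoh.bc g).map c).op σ = F.obj.map ((EtCoh.bc g).map c).op τ := by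
  -- the étale neighbourhoods
  obtain ⟨j, c, hc⟩ := exists_dom (ξ ≫ f) V (l ≫ b.left ≫ bcFst f V) (by
    rw [Category.assoc, Category.assoc, bc_condition, ← Category.assoc b.left, et_w,
      ← Category.assoc l, hl])
  obtain ⟨i, n, hn⟩ := exists_dom ξ U l hl
  have hbc : lft ξ i ≫ (n ≫ b).left ≫ bcFst f V = lft (ξ ≫ f) j ≫ c.left := by
    rw [hc, ← hn]
    simp only [Category.assoc]
    rfl
  have hk := LX_kap ξ H (n ≫ b) c hbc
  rw [kap_comp] at hk
  -- the two families on `T ×_S D j`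
  have h0 : (fam σ).res (LX (ξ ≫ f) g j ≫ ((EtCoh.bc g).map c).left) (by
      rw [Category.assoc, et_w, LX_hom]) =
      (fam τ).res (LX (ξ ≫ f) g j ≫ ((EtCoh.bc g).map c).left)
      (by rw [Category.assoc, et_w, LX_hom]) := by
    refine eq_of_SB (P ξ H) hSB rfl ((isLoc_fam σ).res _ _) ((isLoc_fam _).res _ _) ?_
    rw [Fam.res_res, Fam.res_res]
    refine res_comp_congr hσ (LX ξ h i ≫ ((EtCoh.bc h).map n).left) _ _ ?_ ?_
    · rw [Category.assoc, hk]
    · rw [Category.assoc, hk]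
  have h1 : ((fam σ).res ((EtCoh.bc g).map c).left (et_w _)).res (LX (ξ ≫ f) g j) rfl =
      ((fam τ).res ((EtCoh.bc g).map c).left (et_w _)).res
        (LX (ξ ≫ f) g j) rfl := by
    rw [Fam.res_res, Fam.res_res]
    exact res_comp_congr h0 (𝟙 _) _ _ (Category.id_comp _) (Category.id_comp _)
  obtain ⟨j', g', hg'⟩ := LimSecSh.exists_agree
    (coneX (ξ ≫ f) g (IsPullback.of_hasPullback g (toBase (ξ ≫ f))))
    (isLimitConeX (ξ ≫ f) g (IsPullback.of_hasPullback g (toBase (ξ ≫ f))))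
    ((isLoc_fam σ).res _ _) ((isLoc_fam _).res _ _) h1
  have hc' : lft (ξ ≫ f) j' ≫ ((D (ξ ≫ f)).map g' ≫ c).left = l ≫ b.left ≫ bcFst f V := by
    rw [← hc, ← lft_map (ξ ≫ f) g', Category.assoc]
    rfl
  obtain ⟨c', hcc'⟩ : ∃ c', c' = (D (ξ ≫ f)).map g' ≫ c := ⟨_, rfl⟩
  rw [← hcc'] at hc'
  -- the fibre product
  let l₂ : Spec (CommRingCat.of Ω) ⟶ ((EtCoh.bc f).obj ((D (ξ ≫ f)).obj j')).left :=
    bcPt f ξ (lft (ξ ≫ f) j') (lft_hom _ _)
  have hl₂ : l₂ ≫ bcFst f ((D (ξ ≫ f)).obj j') = lft (ξ ≫ f) j' := bcPt_fst f _ _ _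
  have hl₂' : l₂ ≫ ((EtCoh.bc f).obj ((D (ξ ≫ f)).obj j')).hom = ξ := bcPt_hom f _ _ _
  have hll : l ≫ b.left = l₂ ≫ ((EtCoh.bc f).map c').left := by
    apply hom_ext_bc f
    · rw [Category.assoc, Category.assoc, bc_map_fst, ← Category.assoc l₂, hl₂, hc']
    · rw [Category.assoc, Category.assoc, et_w, et_w, hl, hl₂']
  obtain ⟨U', a, b', y', hy', hab⟩ := exists_fibre b ((EtCoh.bc f).map c') l l₂ hll
  refine ⟨(D (ξ ≫ f)).obj j', c', U', a, b', y', hy', hab, ?_⟩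
  · apply fam_ext
    rw [fam_map, fam_map]
    refine res_eq_res hg' _ _ ?_ ?_
    · rw [hcc', Functor.map_comp]; rfl
    · rw [hcc', Functor.map_comp]; rfl

end Core


/-- Degree zero base change for sheaves of sets from bijectivity on global sections over the strict
localizations. -/
theorem isIso_baseChange0Sh_of_sec (H : IsPullback e h g f) [QuasiCompact g]
    [QuasiSeparated g]
    (hSB : ∀ (Ω : Type u) [Field Ω] [IsSepClosed Ω] (ξ : Spec (CommRingCat.of Ω) ⟶ X), SB (P ξ H))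
    (F : Sh T) : IsIso (EtBC.baseChange0Sh g f h e H.w F) := by
  refine Groth.Agent.Etbc.H186.BCCritSh.isIso_baseChange0Sh_of_fam g f h e H.w F ?_ ?_
  · intro V σ τ U b hσ y
    obtain ⟨Ω, _, _, l, hl⟩ := exists_geomPoint U.left y
    rw [← hl]
    refine hinj_sec (l ≫ U.hom) H F (hSB Ω (l ≫ U.hom)) V σ τ U b ?_ l rfl
    ext Ω' _ _ l' ξ' hl'
    exact hσ Ω' l' ξ' _
  · intro U γ y
    obtain ⟨Ω, _, _, l, hl⟩ := exists_geomPoint U.left y
    rw [← hl]
    obtain ⟨V, U', a, b, σ, y', hy', hr⟩ := hsurj_sec (l ≫ U.hom) H F (hSB Ω (l ≫ U.hom))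
      U (ofFam γ) (isLoc_ofFam γ) l rfl
    refine ⟨V, U', a, b, σ, y', hy', ?_⟩
    intro Ω' _ _ l' ξ' h1 h2
    exact Fam.congr_fun hr l' (ξ := ξ') (by
      rw [← h1, Category.assoc, ← Category.assoc ((EtCoh.bc h).map a).left, et_w])

end K3.BCStrictSec
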