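import Groth.Agent.Etdl.H430.CoprodTR
import Groth.Agent.Etrest.RDer4

/-!
# Unbounded derived functors of locally finite cohomological dimension

`G : A ⥤ B` left exact, `r v : B ⥤ Bv v` a family of left exact functors detecting acyclicity of complexes such that every
`G ⋙ r v` has finite cohomological dimension (`LocFin G r`).  Then:
* `acyclic_map`: `G` sends acyclic unbounded complexes with `LAcyc` terms to acyclic complexes;
* `isIso_unitQ`: the total right derived functor of `G` is computed by unbounded complexes with `LAcyc` terms;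
* `preservesCoproducts_TR`: `TR G` preserves coproducts if `G` does and coproducts of injectives are `LAcyc`.
-/

set_option autoImplicit false
universe t s w w' w'' v v' v'' u u' u''
open CategoryTheory CategoryTheory.Limits

noncomputable section
namespace K3.UnbAcyc
open Groth.Agent.Etrest RDer1 RDer2 RDer3
open Groth.Agent.Etdl.H430 AmpTR CoprodTR
open Groth.Agent.PerfB.CoprodDerived Groth.Agent.PerfA.HomologyCoprod

section acyc

variable {A : Type u} [Category.{v} A] [Abelian A] [EnoughInjectives A]
  {B : Type u'} [Category.{v'} B] [Abelian B] (G : A ⥤ B) [G.Additive]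

/-- A left exact functor of finite cohomological dimension preserves acyclicity of unbounded complexes of acyclic
objects. -/
theorem acyclic_map_of_fin [PreservesFiniteLimits G] (N : ℕ)
    (hN : ∀ q : ℕ, N < q → ∀ X : A, IsZero ((G.rightDerived q).obj X)) (K : CochainComplex A ℤ)
    (hK : K.Acyclic) (h : ∀ i, IsAcyc G (K.X i)) : ((G.mapHomologicalComplex (.up ℤ)).obj K).Acyclic :=
  fun i => exactAt_map G K i (hK i) (hK _)
    (isAcyc_cycles G K (i - 1 - N) N hN (fun j _ => hK j) h (i - 1) (by omega))

variable {V : Type s} {Bv : V → Type u''} [∀ v, Category.{v''} (Bv v)] [∀ v, Abelian (Bv v)]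
  (r : ∀ v, B ⥤ Bv v) [∀ v, (r v).Additive]

/-- `G` has locally finite cohomological dimension with respect to the family `r` of functors detecting acyclicity. -/
structure LocFin : Prop where
  det : ∀ L : CochainComplex B ℤ, (∀ v, HomologicalComplex.Acyclic (((r v).mapHomologicalComplex (.up ℤ)).obj L)) →
    L.Acyclic
  lex : ∀ v, PreservesFiniteLimits (G ⋙ r v)
  fin : ∀ v, ∃ N : ℕ, ∀ q : ℕ, N < q → ∀ X : A, IsZero (((G ⋙ r v).rightDerived q).obj X)

/-- Objects which are acyclic for all the `G ⋙ r v`. -/
def LAcyc (X : A) : Prop := ∀ v, IsAcyc (G ⋙ r v) X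

theorem lAcyc_of_injective (X : A) [Injective X] : LAcyc G r X := fun v => isAcyc_of_injective (G ⋙ r v) X

variable {G r}

theorem acyclic_map (hL : LocFin G r) (K : CochainComplex A ℤ) (hK : K.Acyclic) (h : ∀ i, LAcyc G r (K.X i)) :
    ((G.mapHomologicalComplex (.up ℤ)).obj K).Acyclic := by
  refine hL.det _ fun v => ?_
  have := hL.lex v
  obtain ⟨N, hN⟩ := hL.fin v
  exact acyclic_map_of_fin (G ⋙ r v) N hN K hK (fun i => h i v)

/-- `G` preserves quasi-isomorphisms between unbounded complexes with locally acyclic terms. -/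
theorem quasiIso_map (hL : LocFin G r) {K L : CochainComplex A ℤ} (f : K ⟶ L)
    [QuasiIso f] (hK : ∀ i, LAcyc G r (K.X i)) (hL' : ∀ i, LAcyc G r (L.X i)) :
    QuasiIso ((G.mapHomologicalComplex (.up ℤ)).map f) := by
  rw [quasiIso_iff_acyclic]
  have h1 : HomologicalComplex.Acyclic (CochainComplex.mappingCone f) :=
    (quasiIso_iff_acyclic f).1 inferInstance
  have h3 := acyclic_map hL (CochainComplex.mappingCone f) h1 (fun i v =>
    isAcyc_of_iso (G ⋙ r v) (HomologicalComplex.homotopyCofiber.XIsoBiprod f i (i + 1) rfl).symm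
      (isAcyc_biprod (G ⋙ r v) (hK _ v) (hL' _ v)))
  intro i
  exact (h3 i).of_iso (CochainComplex.mappingCone.mapHomologicalComplexIso f G)

variable [HasKInjInj A] [HasDerivedCategory.{w} A] [HasDerivedCategory.{w'} B]

/-- The total right derived functor is computed by unbounded complexes with locally acyclic terms. -/
theorem isIso_unitQ (hL : LocFin G r) (T : CochainComplex A ℤ) (hT : ∀ i, LAcyc G r (T.X i)) :
    IsIso ((unitQ G).app T) := by
  obtain ⟨I, f, hI, hf, hI2⟩ := HasKInjInj.out T
  have h1 := quasiIso_map hL f hT (fun i => by have := hI2 i; exact lAcyc_of_injective G r (I.X i))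
  have h2 : IsIso (DerivedCategory.Q.map ((G.mapHomologicalComplex (.up ℤ)).map f)) := inferInstance
  have h3 : IsIso ((TR G).map (DerivedCategory.Q.map f)) := inferInstance
  have h4 := isIso_unitQ_of_isKInjective G I hI
  have h5 := (unitQ G).naturality f
  have h6 : IsIso ((unitQ G).app T ≫ (TR G).map (DerivedCategory.Q.map f)) := by
    have h7 : (unitQ G).app T ≫ (TR G).map (DerivedCategory.Q.map f) =
      DerivedCategory.Q.map ((G.mapHomologicalComplex (.up ℤ)).map f) ≫ (unitQ G).app I := h5.symm
    rw [h7]; infer_instance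
  exact IsIso.of_isIso_comp_right _ ((TR G).map (DerivedCategory.Q.map f))

end acyc

section coprod

variable {A : Type u} [Category.{v} A] [Abelian A] [EnoughInjectives A] [HasKInjInj A] [HasDerivedCategory.{w} A]
  {B : Type u'} [Category.{v'} B] [Abelian B] [HasDerivedCategory.{w'} B]
  (G : A ⥤ B) [G.Additive]
  {J : Type t} [HasCoproductsOfShape J A] [HasExactColimitsOfShape (Discrete J) A]
  [HasCoproductsOfShape J B] [HasExactColimitsOfShape (Discrete J) B]

omit [EnoughInjectives A] in
/-- `TR G` commutes with the coproduct of a family of complexes such that the units are isomorphisms. -/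
theorem preservesColimit_of_unitQ [PreservesColimitsOfShape (Discrete J) G]
    (I : J → CochainComplex A ℤ) (u2 : ∀ j, IsIso ((unitQ G).app (I j)))
    (u1 : IsIso ((unitQ G).app (∐ I))) :
    PreservesColimit (Discrete.functor fun j => DerivedCategory.Q.obj (I j)) (TR G) := by
  have hG := preserves_mapHomologicalComplex (J := J) G
  refine preservesColimit_of_preserves_colimit_cocone (isColimitQCofan I) ?_
  -- colimit property of the cofan `Q(G(I j)) → Q(G(∐ I))`
  have h1 : IsColimit ((G.mapHomologicalComplex (ComplexShape.up ℤ)).mapCocone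
      (Cofan.mk (∐ I) (Sigma.ι I))) := isColimitOfPreserves _ (coproductIsCoproduct I)
  let GI : J → CochainComplex B ℤ := fun j => (G.mapHomologicalComplex (ComplexShape.up ℤ)).obj (I j)
  have hQ : PreservesColimit (Discrete.functor GI) DerivedCategory.Q :=
    preservesColimit_of_preserves_colimit_cocone (coproductIsCoproduct GI)
      ((isColimitMapCoconeCofanMkEquiv DerivedCategory.Q GI (Sigma.ι GI)).symm (isColimitQCofan GI))
  have h3 : IsColimit (Cofan.mk (f := GI) ((G.mapHomologicalComplex (ComplexShape.up ℤ)).obj (∐ I))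
      (fun j => (G.mapHomologicalComplex (ComplexShape.up ℤ)).map (Sigma.ι I j))) :=
    isColimitMapCoconeCofanMkEquiv (G.mapHomologicalComplex (ComplexShape.up ℤ)) I (Sigma.ι I) h1
  have h2 : IsColimit (Cofan.mk (f := fun j => DerivedCategory.Q.obj (GI j))
      (DerivedCategory.Q.obj ((G.mapHomologicalComplex (ComplexShape.up ℤ)).obj (∐ I)))
      (fun j => DerivedCategory.Q.map ((G.mapHomologicalComplex (ComplexShape.up ℤ)).map (Sigma.ι I j)))) :=
    isColimitMapCoconeCofanMkEquiv DerivedCategory.Q GI _ (isColimitOfPreserves DerivedCategory.Q h3)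
  refine (IsColimit.equivOfNatIsoOfIso (Discrete.natIso fun j => asIso ((unitQ G).app (I j.as))) _ _ ?_) h2
  refine Cocone.ext (asIso ((unitQ G).app (∐ I))) (fun j => ?_)
  have h5 := (unitQ G).naturality (Sigma.ι I j.as)
  change (inv ((unitQ G).app (I j.as)) ≫ DerivedCategory.Q.map
    ((G.mapHomologicalComplex (ComplexShape.up ℤ)).map (Sigma.ι I j.as))) ≫ (unitQ G).app (∐ I) =
    (TR G).map (DerivedCategory.Q.map (Sigma.ι I j.as))
  rw [Category.assoc, IsIso.inv_comp_eq]
  exact h5

variable {V : Type s} {Bv : V → Type u''} [∀ v, Category.{v''} (Bv v)] [∀ v, Abelian (Bv v)]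
  {r : ∀ v, B ⥤ Bv v} [∀ v, (r v).Additive]

omit [HasKInjInj A] [HasDerivedCategory.{w} A] [HasDerivedCategory.{w'} B] [HasExactColimitsOfShape (Discrete J) A]
  [HasCoproductsOfShape J B] [HasExactColimitsOfShape (Discrete J) B] in
theorem lAcyc_sigma_X (hJ : ∀ X : J → A, (∀ j, Injective (X j)) → LAcyc G r (∐ X))
    (I : J → CochainComplex A ℤ) (hI : ∀ j n, Injective ((I j).X n)) (n : ℤ) : LAcyc G r ((∐ I).X n) := by
  have e : (∐ I).X n ≅ ∐ fun j => (I j).X n :=
    (asIso (sigmaComparison (HomologicalComplex.eval A (ComplexShape.up ℤ) n) I)).symm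
  exact fun v => isAcyc_of_iso (G ⋙ r v) e.symm (hJ _ (fun j => hI j n) v)

/-- The total right derived functor of a functor of locally finite cohomological dimension preserves coproducts. -/
theorem preservesCoproducts_TR (hL : LocFin G r) [PreservesColimitsOfShape (Discrete J) G]
    (hJ : ∀ X : J → A, (∀ j, Injective (X j)) → LAcyc G r (∐ X)) :
    PreservesColimitsOfShape (Discrete J) (TR G) := by
  suffices h : ∀ K : J → DerivedCategory A, IsIso (sigmaComparison (TR G) K) from
    have h' : ∀ K : J → DerivedCategory A, PreservesColimit (Discrete.functor K) (TR G) := fun K => by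
      have := h K
      exact PreservesCoproduct.of_iso_comparison (TR G) K
    preservesColimitsOfShape_of_discrete _
  intro K
  choose I hI hI2 e using fun j => exists_kinjinj (K j)
  have hP := preservesColimit_of_unitQ G I (fun j => isIso_unitQ_of_isKInjective G (I j) (hI j))
    (isIso_unitQ hL _ (lAcyc_sigma_X G hJ I hI2))
  have hsig : IsIso (sigmaComparison (TR G) fun j => DerivedCategory.Q.obj (I j)) := inferInstance
  have hnat := sigmaComparison_naturality (TR G) (fun j => (e j).some.hom)
  have h1 : IsIso (Limits.Sigma.map (fun j => (TR G).map (e j).some.hom)) := inferInstance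
  have h2 : IsIso (Limits.Sigma.map (fun j => (e j).some.hom)) := inferInstance
  have h3 : IsIso (sigmaComparison (TR G) K ≫ (TR G).map (Limits.Sigma.map (fun j => (e j).some.hom))) := by
    rw [← hnat]
    infer_instance
  exact IsIso.of_isIso_comp_right _ ((TR G).map (Limits.Sigma.map (fun j => (e j).some.hom)))

end coprod

end K3.UnbAcyc
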