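import Groth.Agent.Etrest.ModAbR
import Groth.Agent.Etrest.RpushSum
import Groth.Agent.Sga4h.RDExact
import Groth.Agent.Sga4h.H299.AbBasic
import Groth.Agent.Etcore.Stalks
import Groth.Agent.EtpbcA.DimGeom
import Groth.Agent.Sga4B.ModEtInst
import Groth.Agent.EtBC.K3.UnbAcyc

/-!
# Stalk functors of sheaves of `Λ`-modules as a family detecting acyclicity of complexes

* `st Λ y`: the stalk of the underlying abelian sheaf at the standard geometric point over `y`;
* `det`: a complex of sheaves of modules is acyclic if all its stalks are;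
* `stIso`: `R^q (f_* ⋙ st y) F = (R^q f_* F)_y` in terms of the underlying abelian sheaves;
* `locFin_of`, `lAcyc_sigma`, `preservesColimitsOfShape_pushMod`.
-/

set_option autoImplicit false
universe u

open CategoryTheory CategoryTheory.Limits AlgebraicGeometry Opposite

noncomputable section

namespace K3.ModFin
open Groth.Agent Groth.Agent.Etrest Groth.Agent.Etrest.ModAb
open Groth.Agent.EtpbcA.DimGeom Groth.Agent.Sga4h.H299.AbBasic
open UnbAcyc

variable (Λ : Type (u + 1)) [CommRing Λ] {X Y : Scheme.{u}}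

/-- The stalk of the underlying abelian sheaf at the standard geometric point over `y`. -/
abbrev st (y : Y) : EtModW.Mod Λ Y ⥤ AddCommGrpCat.{u + 1} := ab Λ Y ⋙ EtCoh.stalk (geomPt y)

instance preservesFiniteLimits_st (y : Y) : PreservesFiniteLimits (st Λ y) :=
  comp_preservesFiniteLimits _ _

instance preservesFiniteColimits_st (y : Y) : PreservesFiniteColimits (st Λ y) :=
  comp_preservesFiniteColimits _ _

instance additive_st (y : Y) : (st Λ y).Additive := inferInstance

theorem exact_of_st (S : ShortComplex (EtModW.Mod Λ Y)) (h : ∀ y : Y, (S.map (st Λ y)).Exact) : S.Exact := by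
  rw [← ShortComplex.exact_map_iff_of_faithful S (ab Λ Y)]
  refine Etcore.Stalks.exact_of_stalks _ fun y => ?_
  exact ⟨SeparableClosure (Y.residueField y), inferInstance, inferInstance, geomPt y, geomPt_apply y _, h y⟩

/-- Stalks detect acyclicity. -/
theorem det (L : CochainComplex (EtModW.Mod Λ Y) ℤ)
    (h : ∀ y : Y, HomologicalComplex.Acyclic (((st Λ y).mapHomologicalComplex (.up ℤ)).obj L)) :
    L.Acyclic := by
  intro i
  rw [HomologicalComplex.exactAt_iff' _ (i - 1) i (i + 1) (by simp) (by simp)]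
  refine exact_of_st Λ _ fun y => ?_
  have h1 := h y i
  rw [HomologicalComplex.exactAt_iff' _ (i - 1) i (i + 1) (by simp) (by simp)] at h1
  exact h1

theorem isZero_of_st (F : EtModW.Mod Λ Y) (h : ∀ y : Y, IsZero ((st Λ y).obj F)) : IsZero F := by
  apply isZero_of_ab
  refine Etcore.Stalks.isZero_of_stalks _ fun y => ?_
  exact ⟨SeparableClosure (Y.residueField y), inferInstance, inferInstance, geomPt y, geomPt_apply y _, h y⟩

variable (f : X ⟶ Y)

instance preservesFiniteLimits_push : PreservesFiniteLimits (EtModW.push Λ f) :=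
  have : PreservesLimitsOfSize.{0, 0} (EtModW.push Λ f) := (pullPushAdj Λ f).rightAdjoint_preservesLimits
  PreservesLimitsOfSize.preservesFiniteLimits _

/-- `R^q (f_* ⋙ st y) F` is the stalk at `y` of `R^q f_*` of the underlying abelian sheaf. -/
def stIso (y : Y) (q : ℕ) : (EtModW.push Λ f ⋙ st Λ y).rightDerived q ≅
    ab Λ X ⋙ EtCoh.Rpush f q ⋙ EtCoh.stalk (geomPt y) :=
  Sga4h.RDExact.postIso (EtModW.push Λ f) (st Λ y) q ≪≫ (Functor.associator _ _ _).symm ≪≫
    Functor.isoWhiskerRight (rpushIso Λ f q) (EtCoh.stalk (geomPt y)) ≪≫ Functor.associator _ _ _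

theorem locFin_of (h : ∀ y : Y, ∃ N : ℕ, ∀ q : ℕ, N < q → ∀ F : EtModW.Mod Λ X,
    IsZero ((EtCoh.stalk (geomPt y)).obj ((EtCoh.Rpush f q).obj ((ab Λ X).obj F)))) :
    LocFin (EtModW.push Λ f) (fun y : Y => st Λ y) where
  det := det Λ
  lex y := comp_preservesFiniteLimits _ _
  fin y := by
    obtain ⟨N, hN⟩ := h y
    exact ⟨N, fun q hq F => (hN q hq F).of_iso ((stIso Λ f y q).app F)⟩

theorem lAcyc_of_acyclic (F : EtModW.Mod Λ X) (h : RDer2.IsAcyc (EtCoh.push f) ((ab Λ X).obj F)) :
    LAcyc (EtModW.push Λ f) (fun y : Y => st Λ y) F := fun y n =>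
  ((EtCoh.stalk (geomPt y)).map_isZero (h n)).of_iso ((stIso Λ f y (n + 1)).app F)

section coproducts

variable (ι : Type (u + 1))

instance hasCoproducts (X : Scheme.{u}) : HasColimitsOfShape (Discrete ι) (EtModW.Mod Λ X) :=
  have : HasColimitsOfShape (Discrete ι) (ModuleCat.{u + 1} Λ) := inferInstance
  Sheaf.instHasColimitsOfShape

instance hasExactCoproducts (X : Scheme.{u}) : HasExactColimitsOfShape (Discrete ι) (EtModW.Mod Λ X) := by
  have h : AB4OfSize.{u + 1} (EtModW.Mod Λ X) := inferInstance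
  exact AB4OfSize.ofShape ι

instance preservesCoproducts_ab (X : Scheme.{u}) : PreservesColimitsOfShape (Discrete ι) (ab Λ X) :=
  inferInstance

variable {ι}

theorem isAcyc_sigma_ab [QuasiCompact f] [QuasiSeparated f] (K : ι → EtCoh.Ab X)
    (hK : ∀ j, RDer2.IsAcyc (EtCoh.push f) (K j)) : RDer2.IsAcyc (EtCoh.push f) (∐ K) :=
  Etdl.H430.CoprodTR.isAcyc_sigma (EtCoh.push f) (fun q => RpushSum.preservesColimitsOfShape_Rpush ι f q) K hK

theorem lAcyc_sigma [QuasiCompact f] [QuasiSeparated f] (K : ι → EtModW.Mod Λ X)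
    (hK : ∀ j, Injective (K j)) : LAcyc (EtModW.push Λ f) (fun y : Y => st Λ y) (∐ K) := by
  apply lAcyc_of_acyclic
  refine RDer2.isAcyc_of_iso _ (asIso (sigmaComparison (ab Λ X) K)) (isAcyc_sigma_ab f _ fun j n => ?_)
  have := hK j
  exact acyclic_ab Λ (K j) f (n + 1) (by omega)

variable (ι) in
theorem preservesColimitsOfShape_pushMod [QuasiCompact f] [QuasiSeparated f] :
    PreservesColimitsOfShape (Discrete ι) (EtModW.push Λ f) := by
  have h1 := RpushSum.preservesColimitsOfShape_push ι f
  have h2 : PreservesColimitsOfShape (Discrete ι) (EtModW.push Λ f ⋙ ab Λ Y) :=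
    preservesColimitsOfShape_of_natIso (pushIso Λ f).symm
  have h3 : ReflectsColimitsOfShape (Discrete ι) (ab Λ Y) := reflectsColimitsOfShape_of_reflectsIsomorphisms
  exact preservesColimitsOfShape_of_reflects_of_preserves _ (ab Λ Y)

end coproducts

end K3.ModFin
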