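import Groth.Agent.Etbc.H180.BcAbs
import Groth.Agent.Etsix.H627.BcModAb
import Groth.Agent.EtBC.K3.ModFin
import Groth.Prelude.Def_W4c6etmotetsheavesDMod

/-!
# `EtBC.bcMapModD` and the canonical derived base change transformation `bcD (bcN w)`

* `isIso_bcMapModD_iff`;
* `isIso_bcN`: the degree zero base change for modules from that for the underlying abelian sheaves;
* `isIso_bcD_Q_of_LAcyc`: the criterion with unbounded complexes of locally acyclic modules.
-/

set_option autoImplicit false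
universe u

open CategoryTheory CategoryTheory.Limits Opposite AlgebraicGeometry

attribute [local instance] HasDerivedCategory.standard

noncomputable section
namespace K3.BcModMap

open Groth.Agent Groth.Agent.Etrest.RDer2 Groth.Agent.Etrest.RDer3 Groth.Agent.Etrest.RDer4
  Groth.Agent.Etsix.H627.BcModAb Groth.Agent.Etrest.ModAb Groth.Agent.Sga4h.BidLimAb
open Groth.Agent.Etbc.H180 UnbAcyc ModFin

variable (Λ : Type (u + 1)) [CommRing Λ] {X Y X' Y' : Scheme.{u}} (f : X ⟶ Y) (g : Y' ⟶ Y) (f' : X' ⟶ Y')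
  (g' : X' ⟶ X) (w : g' ≫ f = f' ≫ g)

instance hasKInjInj_mod : Etdl.H430.AmpTR.HasKInjInj (EtModW.Mod Λ X) :=
  Etdl.H430.AmpTR.hasKInjInj_of_isGrothendieckAbelian _

section iff

variable [PreservesFiniteLimits (EtModW.pull Λ g)] [PreservesFiniteLimits (EtModW.pull Λ g')]
  [EtBC.HasRpushMod Λ f] [EtBC.HasRpushMod Λ f'] [EtBC.HasRpushMod Λ g]

/-- The comparison isomorphism. -/
def theta (adj : EtBC.pullModD Λ g ⊣ EtBC.RpushModD Λ g) :
    EtBC.RpushModD Λ f ⋙ EtBC.pullModD Λ g ≅ TR (EtModW.push Λ f) ⋙ EtBC.pullModD Λ g :=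
  BcAbs.theta (G := EtModW.push Λ f) (EtSix.pullPushModAdj Λ g) adj

/-- The base change morphism of the prelude, for any adjunction, is `bcD` up to isomorphisms. -/
theorem bcMapModD_eq (adj : EtBC.pullModD Λ g ⊣ EtBC.RpushModD Λ g) (K : EtModD.D Λ X) :
    EtBC.bcMapModD Λ f g f' g' w adj K = (theta Λ f g adj).hom.app K ≫
      (bcD (bcN (Λ := Λ) w)).app K ≫
      (TRIso (EtModW.push Λ f')).inv.app ((EtBC.pullModD Λ g').obj K) :=
  BcAbs.bcMap_eq (EtSix.pullPushModAdj Λ g) (bcN (Λ := Λ) w) (EtSix.pushToPushPullMod Λ f g f' g' w)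
    (hα w) adj K

theorem iso_aux {C : Type*} [Category* C] {a b c d : C} (e : a ⟶ b) [IsIso e] (x : b ⟶ c) (e' : c ⟶ d)
    [IsIso e'] : IsIso (e ≫ x ≫ e') ↔ IsIso x := by
  have h : inv e ≫ (e ≫ x ≫ e') ≫ inv e' = x := by simp
  refine ⟨fun _ => ?_, fun _ => inferInstance⟩
  rw [← h]; infer_instance

theorem isIso_bcMapModD_iff (adj : EtBC.pullModD Λ g ⊣ EtBC.RpushModD Λ g) (K : EtModD.D Λ X) :
    IsIso (EtBC.bcMapModD Λ f g f' g' w adj K) ↔ IsIso ((bcD (bcN (Λ := Λ) w)).app K) := by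
  rw [bcMapModD_eq]
  exact iso_aux _ _ _

end iff

variable {f g f' g'}

/-- Degree zero base change. -/
theorem isIso_bcN (M : EtModW.Mod Λ X)
    (h : IsIso (EtCoh.baseChange0 f g f' g' w ((ab Λ X).obj M))) : IsIso ((bcN (Λ := Λ) w).app M) := by
  have h1 := ab_bcM w M
  have h2 : IsIso ((ab Λ Y').map (bcM Λ w M) ≫ (pushIso Λ f').hom.app _ ≫
      (EtCoh.push f').map ((pullIso Λ g').hom.app M)) := by
    rw [h1]
    infer_instance
  have h3 : IsIso ((ab Λ Y').map (bcM Λ w M)) :=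
    IsIso.of_isIso_comp_right _ ((pushIso Λ f').hom.app _ ≫ (EtCoh.push f').map ((pullIso Λ g').hom.app M))
  rw [bcN_app]
  exact isIso_of_reflects_iso (bcM Λ w M) (ab Λ Y')

theorem isAcyc_pull (M : EtModW.Mod Λ X)
    (h : IsAcyc (EtCoh.push f') ((EtCoh.pull g').obj ((ab Λ X).obj M))) :
    LAcyc (EtModW.push Λ f') (fun y : Y' => st Λ y) ((EtModW.pull Λ g').obj M) :=
  lAcyc_of_acyclic Λ f' _ (isAcyc_of_iso _ ((pullIso Λ g').app M).symm h)

/-- `bcD` is an isomorphism at the object represented by a complex `T` if the units of `Rf_*` and `Rf'_*` are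
isomorphisms at `T` and `g'^* T` and the degree zero base change morphisms are isomorphisms. -/
theorem isIso_bcD_of_units [PreservesFiniteLimits (EtModW.pull Λ g)] [PreservesFiniteLimits (EtModW.pull Λ g')]
    (T : CochainComplex (EtModW.Mod Λ X) ℤ) (h1 : IsIso ((unitQ (EtModW.push Λ f)).app T))
    (hL : LocFin (EtModW.push Λ f') (fun y : Y' => st Λ y))
    (h2 : ∀ i, IsAcyc (EtCoh.push f') ((EtCoh.pull g').obj ((ab Λ X).obj (T.X i))))
    (h3 : ∀ i, IsIso (EtCoh.baseChange0 f g f' g' w ((ab Λ X).obj (T.X i)))) :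
    IsIso ((bcD (bcN (Λ := Λ) w)).app (DerivedCategory.Q.obj T)) :=
  isIso_bcD_Q (bcN (Λ := Λ) w) T h1 (isIso_unitQ hL _ fun i => isAcyc_pull Λ _ (h2 i))
    (fun i => isIso_bcN Λ w _ (h3 i))

end K3.BcModMap
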