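import Groth.Agent.EtBC.K3.GenZero
import Groth.Agent.S1358
import Groth.Agent.S0434

/-!
# Generic 0-acyclicity

For `a : X ⟶ S` of finite type with `S` Noetherian there is a dense open `U` of `S` such that every base change of
`a` by a morphism with image in `U` is universally locally 0-acyclic.
-/

set_option autoImplicit false
universe u

open TensorProduct IsLocalRing CategoryTheory CategoryTheory.Limits AlgebraicGeometry

namespace K3.GenOpen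

open Groth.Agent.Etrest.StrictLoc Groth.Agent.Etbc.H192.Model

/-- After a universal homeomorphism of an open neighbourhood of `s`, the morphism `a` has a flat model with
geometrically reduced fibres. -/
def GoodAt {X S : Scheme.{u}} (a : X ⟶ S) (s : S) : Prop :=
  ∃ (V T XT X' : Scheme.{u}) (i : V ⟶ S) (t : T ⟶ V) (xt : XT ⟶ X) (at' : XT ⟶ T) (r : X' ⟶ XT),
    IsOpenImmersion i ∧ IsIntegralHom t ∧ UniversallyInjective t ∧ Surjective t ∧
    IsPullback xt at' a (t ≫ i) ∧ IsClosedImmersion r ∧ Surjective r ∧ Flat (r ≫ at') ∧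
    LocallyOfFinitePresentation (r ≫ at') ∧ FibRed (r ≫ at') ∧ s ∈ Set.range i

theorem isOpen_goodAt {X S : Scheme.{u}} (a : X ⟶ S) : IsOpen {s | GoodAt a s} := by
  rw [isOpen_iff_forall_mem_open]
  rintro s ⟨V, T, XT, X', i, t, xt, at', r, h1, h2, h3, h4, h5, h6, h7, h8, h9, h10, hs⟩
  exact ⟨Set.range i, fun s' hs' =>
    ⟨V, T, XT, X', i, t, xt, at', r, h1, h2, h3, h4, h5, h6, h7, h8, h9, h10, hs'⟩,
    h1.isOpen_range, hs⟩

theorem isULocZeroAcyclic {X S : Scheme.{u}} (a : X ⟶ S) {Z Z' : Scheme.{u}} {c : Z ⟶ S} {p : Z' ⟶ Z}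
    {q : Z' ⟶ X} (h : IsPullback q p a c) (hc : ∀ z : Z, GoodAt a (c z)) : EtAcyc.IsULocZeroAcyclic p := by
  intro X₁ Y₁ g₁ b' b hsq x RY RX _ _ _ _ _ _ _ _ _ _ _ _ hcc
  have h1 : IsPullback (b' ≫ q) g₁ a (b ≫ c) := hsq.paste_horiz h
  obtain ⟨V, T, XT, X', i, t, xt, at', r, k1, k2, k3, k4, k5, k6, k7, k8, k9, k10, hs⟩ :=
    hc (b (Hens2.specOf Y₁ (g₁ x) RY (closedPoint RY)))
  exact GenZero.main a i t k5 r (r ≫ at') rfl k10 h1 (isStrictLoc_specOf Y₁ (g₁ x) RY)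
    (isStrictLoc_specOf X₁ x RX) (algebraMap RY RX)
    ((Groth.Agent.Etrest.VCBaseChange.specOf_comm g₁ x RY RX (algebraMap RY RX)).1 hcc) hs

/-- In an irreducible scheme the good points are dense. -/
theorem exists_goodAt_of_irreducible {X S : Scheme.{u}} (a : X ⟶ S) [LocallyOfFiniteType a] [QuasiCompact a]
    (W : S.Opens) [IrreducibleSpace ↥(W : Scheme.{u})] : ∃ s ∈ W, GoodAt a s := by
  obtain ⟨V, Y', g, X', r, hY', hV, hY'a, hg1, hg2, hr1, hr2, hX'r, hf1, hf2, hf3, hf4, hgr⟩ :=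
    Groth.Agent.S1358.result (pullback.snd a W.ι)
  set f := r ≫ pullback.snd (pullback.snd a W.ι) (g ≫ V.ι) with hf
  have hY'' := hY'
  obtain ⟨V', hV', hV'r⟩ := Groth.Agent.S0434.result f hgr
  obtain ⟨gu1, gu2, gu3⟩ := (Groth.Agent.FlatA.UnivHomeo.isUnivHomeo_iff g).1 hg2
  have hhom := Groth.Agent.FlatA.UnivHomeo.isHomeomorph_of_isUnivHomeo hg2
  -- `V'` is the inverse image of an open subset of `V`
  obtain ⟨V₁, rfl⟩ : ∃ V₁ : (V : Scheme.{u}).Opens, V' = g ⁻¹ᵁ V₁ := by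
    refine ⟨⟨g '' V', hhom.isOpenMap _ V'.2⟩, ?_⟩
    apply TopologicalSpace.Opens.ext
    exact (Set.preimage_image_eq _ hhom.injective).symm
  have hV₁ : (V₁ : Set (V : Scheme.{u})).Nonempty := by
    obtain ⟨y, hy⟩ := hV'
    exact ⟨g y, hy⟩
  obtain ⟨v, hv⟩ := hV₁
  -- the square
  have hQ : IsPullback (pullback.fst (pullback.snd a W.ι) (g ≫ V.ι) ≫ pullback.fst a W.ι)
      (pullback.snd (pullback.snd a W.ι) (g ≫ V.ι)) a ((g ≫ V.ι) ≫ W.ι) :=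
    (IsPullback.of_hasPullback (pullback.snd a W.ι) (g ≫ V.ι)).paste_horiz (IsPullback.of_hasPullback a W.ι)
  set sn := pullback.snd (pullback.snd a W.ι) (g ≫ V.ι) with hsn
  have hR : IsPullback (sn ⁻¹ᵁ (g ⁻¹ᵁ V₁)).ι (sn ∣_ (g ⁻¹ᵁ V₁)) sn (g ⁻¹ᵁ V₁).ι :=
    (isPullback_morphismRestrict sn (g ⁻¹ᵁ V₁)).flip
  have hRQ := hR.paste_horiz hQ
  have hti : (g ⁻¹ᵁ V₁).ι ≫ (g ≫ V.ι) ≫ W.ι = (g ∣_ V₁) ≫ (V₁.ι ≫ V.ι ≫ W.ι) := by
    rw [morphismRestrict_ι_assoc]; simp only [Category.assoc]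
  rw [hti] at hRQ
  have hcomp : (r ∣_ (sn ⁻¹ᵁ (g ⁻¹ᵁ V₁))) ≫ (sn ∣_ (g ⁻¹ᵁ V₁)) = f ∣_ (g ⁻¹ᵁ V₁) :=
    (morphismRestrict_comp r sn (g ⁻¹ᵁ V₁)).symm
  have hpf := (isPullback_morphismRestrict f (g ⁻¹ᵁ V₁)).flip
  have hpr := (isPullback_morphismRestrict r (sn ⁻¹ᵁ (g ⁻¹ᵁ V₁))).flip
  have hpg := (isPullback_morphismRestrict g V₁).flip
  refine ⟨(V₁.ι ≫ V.ι ≫ W.ι) ⟨v, hv⟩, (V.ι v).2, V₁, _, _, _, V₁.ι ≫ V.ι ≫ W.ι, g ∣_ V₁, _, sn ∣_ (g ⁻¹ᵁ V₁),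
    r ∣_ (sn ⁻¹ᵁ (g ⁻¹ᵁ V₁)), inferInstance, ?_, ?_, ?_, hRQ, ?_, ?_, ?_, ?_, ?_, ⟨_, rfl⟩⟩
  · exact MorphismProperty.of_isPullback hpg gu1
  · exact MorphismProperty.of_isPullback hpg gu2
  · exact MorphismProperty.of_isPullback hpg gu3
  · exact MorphismProperty.of_isPullback hpr hr1
  · exact MorphismProperty.of_isPullback hpr hr2
  · rw [hcomp]; exact MorphismProperty.of_isPullback hpf hf1
  · rw [hcomp]; exact MorphismProperty.of_isPullback hpf hf2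
  · rw [hcomp]
    exact @fibRed_of_geometricallyReduced _ _ _ hV'r

theorem dense_goodAt {X S : Scheme.{u}} (a : X ⟶ S) [IsNoetherian S] [LocallyOfFiniteType a]
    [QuasiCompact a] : Dense {s | GoodAt a s} := by
  rw [dense_iff_inter_open]
  rintro W hW ⟨x, hx⟩
  obtain ⟨o, ho, hone, hoZ⟩ := TopologicalSpace.NoetherianSpace.exists_isOpen_nonempty_subset_irreducibleComponent
    (irreducibleComponent x) (irreducibleComponent_mem_irreducibleComponents x)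
  have hirr : IsIrreducible (irreducibleComponent x) := isIrreducible_irreducibleComponent
  have hne : (irreducibleComponent x ∩ (W ∩ o)).Nonempty := by
    refine hirr.2 W o hW ho ⟨x, mem_irreducibleComponent, hx⟩ ?_
    obtain ⟨y, hy⟩ := hone
    exact ⟨y, hoZ hy, hy⟩
  obtain ⟨y, -, hy⟩ := hne
  let W₀ : S.Opens := ⟨W ∩ o, hW.inter ho⟩
  have hW₀ : IsIrreducible (W₀ : Set S) :=
    ⟨⟨y, hy⟩, hirr.2.open_subset (hW.inter ho) (fun z hz => hoZ hz.2)⟩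
  have : IrreducibleSpace ↥(W₀ : Scheme.{u}) := Subtype.irreducibleSpace hW₀
  obtain ⟨s, hs, hs'⟩ := exists_goodAt_of_irreducible a W₀
  exact ⟨s, hs.1, hs'⟩

end K3.GenOpen
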