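import Groth.Agent.EtBC.K3.UHModel
import Groth.Agent.Etbc.H192.ULoc

/-!
# Local 0-acyclicity after a universal homeomorphism of the base

`main`: let `a : X ⟶ S`, `i : V ⟶ S` an open immersion, `t : T ⟶ V` a universal homeomorphism and
`r : X' ⟶ X ×_S T` a surjective closed immersion such that `X' ⟶ T` is flat, locally of finite presentation, with
geometrically reduced fibres. Then every morphism of strict localizations of a base change of `a`, over a point
of `V`, is 0-acyclic.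
-/

set_option autoImplicit false
universe u

open TensorProduct IsLocalRing CategoryTheory CategoryTheory.Limits AlgebraicGeometry

namespace K3.GenZero

open Groth.Agent.Etrest.StrictLoc Groth.Agent.Etrest.StrictLocBC Groth.Agent.Sga4A.EtStalk
  Groth.Agent.Etbc.H192.ZeroAcyc Groth.Agent.Etbc.H192.Glue Groth.Agent.Etbc.H192.Model
  Groth.Agent.Etbc.H192.ULoc K3.UHModel

/-- The last step: descent of 0-acyclicity along universal homeomorphisms. -/
theorem isZeroAcyclic_of_square {A A' B B' : Type u} [CommRing A] [CommRing A'] [CommRing B] [CommRing B']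
    [IsLocalRing A'] [IsLocalRing B']
    (β : A →+* B) (β' : A' →+* B') (α : A →+* A') (αB : B →+* B') (hsq : αB.comp β = β'.comp α)
    [IsLocalHom β'] [Flat (spm β')] (hc : SepGeomConnected (spm β'))
    [Surjective (spm α)] [IsIntegralHom (spm α)]
    (hsurj : ∀ (P : Scheme.{u}) (u : P ⟶ Spec (CommRingCat.of A')) (v : P ⟶ Spec (CommRingCat.of B)),
      IsPullback u v (spm α) (spm β) → ∀ l : Spec (CommRingCat.of B') ⟶ P, l ≫ u = spm β' → l ≫ v = spm αB →
        Surjective l) : EtAcyc.IsZeroAcyclic (spm β) := by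
  have hsq' : spm αB ≫ spm β = spm β' ≫ spm α := by rw [← spm_comp, ← spm_comp, hsq]
  have hs' : Surjective (spm β') := surjective_spm β'
  refine isZeroAcyclic_of_connected _ (etSubmersive_of_square (spm αB) (spm β) (spm β') (spm α) hsq') ?_
  apply sepGeomConnected_of_algClosed
  intro Ω _ _ s
  obtain ⟨s', hs'⟩ := exists_lift_algClosed (spm α) Ω s
  have hcon : ConnectedSpace ↥(pullback s' (spm β')) := hc Ω s'
  -- the fibre product
  let P := pullback (spm α) (spm β)
  let u : P ⟶ Spec (CommRingCat.of A') := pullback.fst _ _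
  let v : P ⟶ Spec (CommRingCat.of B) := pullback.snd _ _
  have hP : IsPullback u v (spm α) (spm β) := IsPullback.of_hasPullback _ _
  let l : Spec (CommRingCat.of B') ⟶ P := hP.lift (spm β') (spm αB) hsq'.symm
  have hl1 : l ≫ u = spm β' := hP.lift_fst _ _ _
  have hl2 : l ≫ v = spm αB := hP.lift_snd _ _ _
  have hl : Surjective l := hsurj P u v hP l hl1 hl2
  -- the fibre of `spm β` over `s`
  have hF : IsPullback (pullback.snd s (spm β)) (pullback.fst s (spm β)) (spm β) s :=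
    (IsPullback.of_hasPullback s (spm β)).flip
  let n : pullback s (spm β) ⟶ P := hP.lift (pullback.fst s (spm β) ≫ s') (pullback.snd s (spm β)) (by
    rw [Category.assoc, hs', pullback.condition])
  have hn1 : n ≫ u = pullback.fst s (spm β) ≫ s' := hP.lift_fst _ _ _
  have hn2 : n ≫ v = pullback.snd s (spm β) := hP.lift_snd _ _ _
  have hN : IsPullback n (pullback.fst s (spm β)) u s' := by
    refine IsPullback.of_right (h₁₂ := v) (v₁₃ := spm β) (h₂₂ := spm α) ?_ hn1 hP.flip
    rw [hn2, hs']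
    exact hF
  let k : pullback s' (spm β') ⟶ pullback s (spm β) := hN.lift (pullback.snd s' (spm β') ≫ l)
    (pullback.fst s' (spm β')) (by rw [Category.assoc, hl1, pullback.condition])
  have hk1 : k ≫ n = pullback.snd s' (spm β') ≫ l := hN.lift_fst _ _ _
  have hk2 : k ≫ pullback.fst s (spm β) = pullback.fst s' (spm β') := hN.lift_snd _ _ _
  have hK : IsPullback (pullback.snd s' (spm β')) k l n := by
    refine IsPullback.of_bot (v₂₁ := pullback.fst s (spm β)) (v₂₂ := u) (h₃₁ := s') ?_ hk1.symm hN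
    rw [hl1, hk2]
    exact (IsPullback.of_hasPullback s' (spm β')).flip
  have hks : Surjective k := MorphismProperty.of_isPullback hK hl
  exact hks.surj.connectedSpace k.continuous

/-- **Main lemma.** -/
theorem main {X S T V XT X' : Scheme.{u}} (a : X ⟶ S) (i : V ⟶ S) [IsOpenImmersion i] (t : T ⟶ V)
    [IsIntegralHom t] [UniversallyInjective t] [Surjective t]
    {xt : XT ⟶ X} {at' : XT ⟶ T} (hXT : IsPullback xt at' a (t ≫ i))
    (r : X' ⟶ XT) [IsClosedImmersion r] [Surjective r] (f' : X' ⟶ T) (hf' : r ≫ at' = f')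
    [Flat f'] [LocallyOfFinitePresentation f'] (hr : FibRed f')
    {Z Z' : Scheme.{u}} {c : Z ⟶ S} {p : Z' ⟶ Z} {q : Z' ⟶ X} (h : IsPullback q p a c)
    {A B : Type u} [CommRing A] [IsLocalRing A] [CommRing B] [IsLocalRing B]
    {τ : Spec (CommRingCat.of A) ⟶ Z} (hτ : IsStrictLoc τ) {σ : Spec (CommRingCat.of B) ⟶ Z'}
    (hσ : IsStrictLoc σ) (β : A →+* B) [IsLocalHom β] (hβ : spm β ≫ τ = σ ≫ p)
    (hV : c (τ (closedPoint A)) ∈ Set.range i) : EtAcyc.IsZeroAcyclic (spm β) := by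
  obtain ⟨τV, hτV⟩ := exists_lift i (τ ≫ c) hV
  -- the side of `Z`
  obtain ⟨WA, fA, πA, hWA⟩ : ∃ (WA : Scheme.{u}) (fA : WA ⟶ T) (πA : WA ⟶ Spec (CommRingCat.of A)),
      IsPullback fA πA t τV := ⟨_, _, _, IsPullback.of_hasPullback _ _⟩
  have iA1 : IsIntegralHom πA := MorphismProperty.of_isPullback hWA inferInstance
  have iA2 : UniversallyInjective πA := MorphismProperty.of_isPullback hWA inferInstance
  have iA3 : Surjective πA := MorphismProperty.of_isPullback hWA inferInstance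
  obtain ⟨A', _, _, eA, α, hα1, hα2, hα3⟩ := exists_local_model πA ⟨πA.injective, πA.surjective⟩
  have hWA' : IsPullback fA πA (t ≫ i) (τ ≫ c) := by
    rw [← hτV]
    exact IsPullback.of_isLimit (PullbackCone.isLimitOfCompMono _ _ i _ hWA.isLimit)
  obtain ⟨TZ, tz, tz', hTZ⟩ : ∃ (TZ : Scheme.{u}) (tz : TZ ⟶ T) (tz' : TZ ⟶ Z),
      IsPullback tz tz' (t ≫ i) c := ⟨_, _, _, IsPullback.of_hasPullback _ _⟩
  let wA : WA ⟶ TZ := hTZ.lift fA (πA ≫ τ) (by rw [hWA'.w, Category.assoc])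
  have hwA1 : wA ≫ tz = fA := hTZ.lift_fst _ _ _
  have hwA2 : wA ≫ tz' = πA ≫ τ := hTZ.lift_snd _ _ _
  have hWAT : IsPullback wA πA tz' τ := by
    refine IsPullback.of_right (h₁₂ := tz) (v₁₃ := t ≫ i) (h₂₂ := c) ?_ hwA2 hTZ
    rw [hwA1]
    exact hWA'
  have hτ₀ : IsStrictLoc (eA.hom ≫ wA) :=
    isStrictLoc_of_isPullback hτ hWAT (isLocAt_of_isIso eA) α hα2 hα3
  -- the side of `X`
  obtain ⟨PB, fB, pB, hPB⟩ : ∃ (PB : Scheme.{u}) (fB : PB ⟶ T) (pB : PB ⟶ Spec (CommRingCat.of B)),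
      IsPullback fB pB t (spm β ≫ τV) := ⟨_, _, _, IsPullback.of_hasPullback _ _⟩
  have iB1 : IsIntegralHom pB := MorphismProperty.of_isPullback hPB inferInstance
  have iB2 : UniversallyInjective pB := MorphismProperty.of_isPullback hPB inferInstance
  have iB3 : Surjective pB := MorphismProperty.of_isPullback hPB inferInstance
  have hbase : (spm β ≫ τV) ≫ i = σ ≫ q ≫ a := by
    rw [Category.assoc, hτV, reassoc_of% hβ, h.w]
  have hPB' : IsPullback fB pB (t ≫ i) (σ ≫ q ≫ a) := by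
    rw [← hbase]
    exact IsPullback.of_isLimit (PullbackCone.isLimitOfCompMono _ _ i _ hPB.isLimit)
  let m : PB ⟶ XT := hXT.lift (pB ≫ σ ≫ q) fB (by rw [hPB'.w, Category.assoc, Category.assoc])
  have hm1 : m ≫ xt = pB ≫ σ ≫ q := hXT.lift_fst _ _ _
  have hm2 : m ≫ at' = fB := hXT.lift_snd _ _ _
  have hM : IsPullback m pB xt (σ ≫ q) := by
    refine IsPullback.of_right (h₁₂ := at') (v₁₃ := t ≫ i) (h₂₂ := a) ?_ hm1 hXT.flip
    rw [hm2, Category.assoc]
    exact hPB'
  obtain ⟨WB, fW, rW, hWB⟩ : ∃ (WB : Scheme.{u}) (fW : WB ⟶ X') (rW : WB ⟶ PB),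
      IsPullback fW rW r m := ⟨_, _, _, IsPullback.of_hasPullback _ _⟩
  have iW1 : IsClosedImmersion rW := MorphismProperty.of_isPullback hWB inferInstance
  have iW2 : Surjective rW := MorphismProperty.of_isPullback hWB inferInstance
  let πB : WB ⟶ Spec (CommRingCat.of B) := rW ≫ pB
  have hπB : Function.Bijective πB := by
    have h1 : Function.Bijective rW := ⟨rW.injective, rW.surjective⟩
    have h2 : Function.Bijective pB := ⟨pB.injective, pB.surjective⟩
    exact h2.comp h1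
  obtain ⟨B', _, _, eB, αB, hB1, hB2, hB3⟩ := exists_local_model πB hπB
  -- the base change of `X'`
  obtain ⟨XZ, xz, y, hXZ⟩ : ∃ (XZ : Scheme.{u}) (xz : XZ ⟶ X') (y : XZ ⟶ Z'),
      IsPullback xz y (r ≫ xt) q := ⟨_, _, _, IsPullback.of_hasPullback _ _⟩
  have hout : IsPullback fW πB (r ≫ xt) (σ ≫ q) := hWB.paste_vert hM
  let wB : WB ⟶ XZ := hXZ.lift fW (πB ≫ σ) (hout.w.trans (Category.assoc _ _ _).symm)
  have hwB1 : wB ≫ xz = fW := hXZ.lift_fst _ _ _
  have hwB2 : wB ≫ y = πB ≫ σ := hXZ.lift_snd _ _ _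
  have hWBX : IsPullback wB πB y σ := by
    refine IsPullback.of_right (h₁₂ := xz) (v₁₃ := r ≫ xt) (h₂₂ := q) ?_ hwB2 hXZ
    rw [hwB1]
    exact hout
  have hσ₀ : IsStrictLoc (eB.hom ≫ wB) :=
    isStrictLoc_of_isPullback hσ hWBX (isLocAt_of_isIso eB) αB hB2 hB3
  -- the morphism `XZ ⟶ TZ`
  have hcomp : xz ≫ f' ≫ t ≫ i = (y ≫ p) ≫ c := by
    rw [← hf', Category.assoc, ← hXT.w, Category.assoc, ← h.w, ← hXZ.w_assoc, Category.assoc]
  let g₁ : XZ ⟶ TZ := hTZ.lift (xz ≫ f') (y ≫ p) (by rw [Category.assoc, hcomp])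
  have hg1 : g₁ ≫ tz = xz ≫ f' := hTZ.lift_fst _ _ _
  have hg2 : g₁ ≫ tz' = y ≫ p := hTZ.lift_snd _ _ _
  have hG : IsPullback xz g₁ f' tz := by
    refine IsPullback.of_bot (v₂₁ := tz') (v₂₂ := t ≫ i) (h₃₁ := c) ?_ hg1.symm hTZ
    have h1 := hXZ.paste_vert h
    rw [hg2]
    have h2 : (r ≫ xt) ≫ a = f' ≫ t ≫ i := by
      rw [Category.assoc, hXT.w, ← hf', Category.assoc]
    rw [← h2]
    exact h1
  -- the morphism `WB ⟶ WA`
  let ψP : PB ⟶ WA := hWA.lift fB (pB ≫ spm β) (by rw [hPB.w, Category.assoc])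
  have hψ1 : ψP ≫ fA = fB := hWA.lift_fst _ _ _
  have hψ2 : ψP ≫ πA = pB ≫ spm β := hWA.lift_snd _ _ _
  have hΨ : IsPullback ψP pB πA (spm β) := by
    refine IsPullback.of_right (h₁₂ := fA) (v₁₃ := t) (h₂₂ := τV) ?_ hψ2 hWA
    rw [hψ1]
    exact hPB
  let ψ : Spec (CommRingCat.of B') ⟶ Spec (CommRingCat.of A') := eB.hom ≫ rW ≫ ψP ≫ eA.inv
  obtain ⟨β', hβ'⟩ : ∃ β' : A' →+* B', spm β' = ψ := ⟨(Spec.preimage ψ).hom, Spec.map_preimage _⟩
  have hαβ : spm β' ≫ spm α = spm αB ≫ spm β := by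
    rw [hβ', hα3, hB3]
    simp only [ψ, πB, Category.assoc, Iso.inv_hom_id_assoc, hψ2]
  have hαβ' : αB.comp β = β'.comp α := by
    rw [← spm_inj, spm_comp, spm_comp, hαβ]
  have hloc : IsLocalHom β' := by
    have h1 : (spm α) ((spm β') (closedPoint B')) = closedPoint A := by
      change (spm β' ≫ spm α) (closedPoint B') = closedPoint A
      rw [hαβ]
      change (spm β) ((spm αB) (closedPoint B')) = closedPoint A
      have e1 : (spm αB) (closedPoint B') = closedPoint B := comap_closedPoint αB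
      have e2 : (spm β) (closedPoint B) = closedPoint A := comap_closedPoint β
      rw [e1, e2]
    have h2 : (spm α) (closedPoint A') = closedPoint A := comap_closedPoint α
    have h3 : Function.Injective (spm α) := by
      rw [hα3]
      have h4 : Function.Injective (πA ∘ eA.hom) :=
        πA.injective.comp (Scheme.homeoOfIso eA).injective
      exact h4
    have h5 : (spm β') (closedPoint B') = closedPoint A' := h3 (h1.trans h2.symm)
    exact ((IsLocalRing.local_hom_TFAE β').out 0 4).2 (congrArg PrimeSpectrum.asIdeal h5)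
  -- apply the glue lemma
  have hβ₀ : spm β' ≫ (eA.hom ≫ wA) = (eB.hom ≫ wB) ≫ g₁ := by
    rw [hβ']
    simp only [ψ, Category.assoc, Iso.inv_hom_id_assoc]
    congr 1
    apply hTZ.hom_ext
    · rw [Category.assoc, Category.assoc, Category.assoc, hwA1, hψ1, hg1, reassoc_of% hwB1, ← hm2,
        ← hWB.w_assoc, hf']
    · rw [Category.assoc, Category.assoc, Category.assoc, hwA2, reassoc_of% hψ2, hg2, reassoc_of% hwB2, hβ]
      simp only [πB, Category.assoc]
  obtain ⟨U, V', j, i1, i', i2, g', hg', hx, R, C, k1, k2, k3, k4, k5, k6, v, c', hpb⟩ :=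
    hasModel_of_locallyOfFinitePresentation f' hr (xz ((eB.hom ≫ wB) (closedPoint B')))
  obtain ⟨h1, h2⟩ := Groth.Agent.Etbc.H192.Glue.main hG hτ₀ hσ₀ β' hβ₀ j i' g' hg' hx k6 v c' hpb
  have hs1 : Surjective (spm α) := by rw [hα3]; infer_instance
  have hs2 : IsIntegralHom (spm α) := by rw [hα3]; infer_instance
  refine isZeroAcyclic_of_square β β' α αB hαβ' h2 (fun P u v hP l hl1 hl2 => ?_)
  -- the surjectivity
  have hP' : IsPullback (u ≫ eA.hom) v πA (spm β) := by
    refine hP.of_iso (Iso.refl _) eA (Iso.refl _) (Iso.refl _) (by simp) (by simp) ?_ (by simp)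
    simp [hα3]
  let κ : PB ≅ P := hΨ.isoIsPullback _ _ hP'
  have hκ : l = eB.hom ≫ rW ≫ κ.hom := by
    apply hP'.hom_ext
    · rw [reassoc_of% hl1, Category.assoc, Category.assoc, IsPullback.isoIsPullback_hom_fst, hβ']
      simp only [ψ, Category.assoc, Iso.inv_hom_id, Category.comp_id]
    · rw [hl2, Category.assoc, Category.assoc, IsPullback.isoIsPullback_hom_snd, hB3]
  rw [hκ]
  infer_instance

end K3.GenZero
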