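import Groth.Agent.EtBC.K3.UnbBc
import Groth.Agent.Sga4h.Acyc

/-!
# Acyclicity for sheaves of modules from acyclicity of the underlying abelian sheaves
-/

set_option autoImplicit false
universe u

open CategoryTheory CategoryTheory.Limits Opposite AlgebraicGeometry

noncomputable section
namespace K3.ModAcyc

open Groth.Agent Groth.Agent.Etrest.RDer2 Groth.Agent.Etrest.ModAb Groth.Agent.Sga4h.BidLimAb
  Groth.Agent.Sga4h.H299.AbBasic

variable (Λ : Type (u + 1)) [CommRing Λ] {X Y : Scheme.{u}} (f : X ⟶ Y)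

theorem isAcyc_of_ab (M : EtModW.Mod Λ X) (h : IsAcyc (EtCoh.push f) ((ab Λ X).obj M)) :
    IsAcyc (EtModW.push Λ f) M := fun n =>
  isZero_of_ab ((h n).of_iso ((rpushIso Λ f (n + 1)).app M))

theorem isAcyc_pull_of_ab (M : EtModW.Mod Λ Y)
    {Z : Scheme.{u}} (g : X ⟶ Z) (h : IsAcyc (EtCoh.push g) ((EtCoh.pull f).obj ((ab Λ Y).obj M))) :
    IsAcyc (EtModW.push Λ g) ((EtModW.pull Λ f).obj M) :=
  isAcyc_of_ab Λ g _ (isAcyc_of_iso _ ((pullIso Λ f).app M).symm h)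

theorem isIso_unit_of_ab (M : EtModW.Mod Λ Y)
    (h : IsIso ((EtCoh.pullPushAdj f).unit.app ((ab Λ Y).obj M))) :
    IsIso ((pullPushAdj Λ f).unit.app M) := by
  have h1 := ab_unit_pullIso f M
  have h2 : IsIso ((ab Λ Y).map ((pullPushAdj Λ f).unit.app M) ≫ (pushIso Λ f).hom.app _ ≫
      (EtCoh.push f).map ((pullIso Λ f).hom.app M)) := by
    rw [h1]; exact h
  have h3 : IsIso ((ab Λ Y).map ((pullPushAdj Λ f).unit.app M)) :=
    IsIso.of_isIso_comp_right _ ((pushIso Λ f).hom.app _ ≫ (EtCoh.push f).map ((pullIso Λ f).hom.app M))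
  exact isIso_of_reflects_iso _ (ab Λ Y)

theorem isTorsionInvertibleOn_ab (S : Scheme.{u}) (n : ℕ) (hS : IsUnit (n : Γ(S, ⊤))) (hΛ : (n : Λ) = 0)
    (M : EtModW.Mod Λ X) : EtPBC.IsTorsionInvertibleOn S ((ab Λ X).obj M) := fun U s x =>
  ⟨U, 𝟙 U, n, ⟨x, rfl⟩, hS, killedBy_ab hΛ M U _⟩

end K3.ModAcyc
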