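import Groth.Agent.S0156
import Groth.Agent.EtpbcA.CdTwoDim
import Groth.Agent.EtpbcA.CdFinDim
import Groth.Agent.Etcore.Torsion
import Groth.Agent.EtBC.K3.ModFin
import Groth.Agent.EtBC.K3.UnbAdj
import Groth.Prelude.Def_W4c6etmotetsheavesDMod

/-!
# Proper direct images of sheaves of modules killed by an integer have locally finite cohomological dimension
-/

set_option autoImplicit false
universe u w w'

open CategoryTheory CategoryTheory.Limits AlgebraicGeometry Opposite

noncomputable section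

namespace K3.ModProper
open Groth.Agent Groth.Agent.Etrest Groth.Agent.Etrest.ModAb
open Groth.Agent.EtpbcA.DimGeom Groth.Agent.Sga4h.H299.AbBasic
open UnbAcyc ModFin

variable {X Y : Scheme.{u}} (f : X ⟶ Y)

theorem exists_bound [IsProper f] (y : Y) : ∃ N : ℕ, ∀ q : ℕ, N < q → ∀ F : EtCoh.Ab X, EtCoh.IsTorsion F →
    IsZero ((EtCoh.stalk (geomPt y)).obj ((EtCoh.Rpush f q).obj F)) := by
  obtain ⟨n, hn⟩ := EtpbcA.CdFinDim.exists_dim_le (pullback.snd f (geomPt y))
  refine ⟨2 * n, fun q hq F hF => ?_⟩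
  obtain ⟨e⟩ := Groth.Agent.S0156.result f (geomPt y) F hF q
  refine IsZero.of_iso ?_ e
  have h1 := EtpbcA.CdTwoDim.cohDimLE_two_mul
    (pullback f (geomPt y)) (pullback.snd _ _) n hn _
    (Etcore.Torsion.isTorsion_pull (pullback.fst f (geomPt y)) F hF) q hq
  exact AddCommGrpCat.isZero_of_subsingleton _

variable (Λ : Type (u + 1)) [CommRing Λ]

theorem locFin [IsProper f] (n : ℕ) (hn : 0 < n) (hΛ : (n : Λ) = 0) :
    LocFin (EtModW.push Λ f) (fun y : Y => st Λ y) :=
  locFin_of Λ f fun y => by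
    obtain ⟨N, hN⟩ := exists_bound f y
    exact ⟨N, fun q hq F => hN q hq _ (isTorsion_ab hn hΛ F)⟩

instance hasKInjInj_mod : Etdl.H430.AmpTR.HasKInjInj (EtModW.Mod Λ X) :=
  Etdl.H430.AmpTR.hasKInjInj_of_isGrothendieckAbelian _

/-- `Rf_*` preserves coproducts (for arbitrary choices of the derived categories). -/
theorem preservesCoproducts [IsProper f] (n : ℕ) (hn : 0 < n) (hΛ : (n : Λ) = 0)
    [HasDerivedCategory.{w} (EtModW.Mod Λ X)] [HasDerivedCategory.{w'} (EtModW.Mod Λ Y)] (ι : Type (u + 1)) :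
    PreservesColimitsOfShape (Discrete ι) (RDer3.TR (EtModW.push Λ f)) := by
  have := preservesColimitsOfShape_pushMod Λ f ι
  exact preservesCoproducts_TR (J := ι) (EtModW.push Λ f) (locFin f Λ n hn hΛ)
    (fun K hK => lAcyc_sigma Λ f K hK)

/-- `Rf_*` is a left adjoint (for arbitrary choices of the derived categories). -/
theorem isLeftAdjoint [IsProper f] (n : ℕ) (hn : 0 < n) (hΛ : (n : Λ) = 0)
    [HasDerivedCategory.{w} (EtModW.Mod Λ X)] [HasDerivedCategory.{w'} (EtModW.Mod Λ Y)] :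
    (RDer3.TR (EtModW.push Λ f)).IsLeftAdjoint :=
  UnbAdj.isLeftAdjoint_TR (EtModW.push Λ f) (fun _ _ J => preservesCoproducts f Λ n hn hΛ J)

end K3.ModProper
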