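import Groth.Agent.EtBC.K3.SecConn
import Groth.Agent.Etbase.ZarDense
import Groth.Agent.Flat2E.AIC5

/-!
# Absolutely integrally closed rings: étale morphisms have Zariski local sections
-/

set_option autoImplicit false
universe u

open CategoryTheory CategoryTheory.Limits AlgebraicGeometry Opposite

namespace K3.RigAIC

open Groth.Agent Groth.Agent.Flat2E SecConn

/-- an absolutely integrally closed local ring is strictly henselian. -/
theorem isStrictlyHenselian {L : Type u} [CommRing L] [IsLocalRing L] (h : AIC1.IsAIC L) :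
    EtCoh.IsStrictlyHenselianLocalRing L := by
  refine ⟨{ is_henselian := ?_ }, ?_⟩
  · intro f hf a₀ h1 h2
    obtain ⟨s, hs⟩ := h.splits f hf
    rw [hs, Polynomial.eval_multiset_prod, Multiset.map_map] at h1
    obtain ⟨y, hy, hy2⟩ := ((IsLocalRing.maximalIdeal.isMaximal L).isPrime.multiset_prod_mem_iff_exists_mem
      _).1 h1
    rw [Multiset.mem_map] at hy
    obtain ⟨a, ha, rfl⟩ := hy
    refine ⟨a, ?_, ?_⟩
    · rw [hs]
      refine Polynomial.dvd_iff_isRoot.1 (Multiset.dvd_prod (Multiset.mem_map_of_mem _ ha))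
    · have h3 : a₀ - a ∈ IsLocalRing.maximalIdeal L := by simpa using hy2
      rw [← neg_sub]
      exact neg_mem h3
  · have h1 : AIC1.IsAIC (IsLocalRing.ResidueField L) :=
      h.of_surjective (IsLocalRing.residue L) IsLocalRing.residue_surjective
    have : IsAlgClosed (IsLocalRing.ResidueField L) := by
      refine IsAlgClosed.of_exists_root _ fun p hp hirr => ?_
      exact h1 p hp hirr.natDegree_pos.ne'
    infer_instance

theorem isStrictlyHenselian_stalk (R : Type u) [CommRing R] (hR : AIC1.IsAIC R)
    (x : Spec (CommRingCat.of R)) :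
    EtCoh.IsStrictlyHenselianLocalRing ((Spec (CommRingCat.of R)).presheaf.stalk x) := by
  refine isStrictlyHenselian ?_
  let A : Type u := (Spec (CommRingCat.of R)).presheaf.stalk x
  let _ : Algebra R A := StructureSheaf.stalkAlgebra R x
  have : IsLocalization x.asIdeal.primeCompl A := StructureSheaf.IsLocalization.to_stalk R x
  exact hR.of_isLocalization x.asIdeal.primeCompl

theorem zarSec_spec (R : Type u) [CommRing R] (hR : AIC1.IsAIC R) : ZarSec (Spec (CommRingCat.of R)) :=
  fun _ j _ v => Etbase.ZarDense.exists_nhd_section j v (isStrictlyHenselian_stalk R hR _)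

/-- Open subschemes. -/
theorem zarSec_of_isOpenImmersion {X X' : Scheme.{u}} (j : X' ⟶ X) [IsOpenImmersion j] (hX : ZarSec X) :
    ZarSec X' := by
  intro V a ha v
  obtain ⟨O, hO, s, hs, hs'⟩ := hX V (a ≫ j) inferInstance v
  have hO' : a v ∈ j ⁻¹ᵁ O := hO
  refine ⟨j ⁻¹ᵁ O, hO', (j ∣_ O) ≫ s, ?_, ?_⟩
  · rw [← cancel_mono j, Category.assoc, Category.assoc, hs, morphismRestrict_ι]
  · have h : (j ∣_ O) ⟨a v, hO'⟩ = ⟨(a ≫ j) v, hO⟩ := by
      apply O.ι.isOpenEmbedding.injective
      rw [← Scheme.Hom.comp_apply, morphismRestrict_ι]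
      rfl
    rw [Scheme.Hom.comp_apply, h, hs']

/-- Every ring has an absolutely integrally closed integral extension, surjective on spectra. -/
theorem exists_aic (A : Type u) [CommRing A] : ∃ (R : Type u) (_ : CommRing R) (_ : Algebra A R),
    Algebra.IsIntegral A R ∧ AIC1.IsAIC R ∧ Function.Surjective (PrimeSpectrum.comap (algebraMap A R)) := by
  let K : PrimeSpectrum A → Type u := fun p => AlgebraicClosure p.asIdeal.ResidueField
  let P : Type u := Π p, K p
  refine ⟨integralClosure A P, inferInstance, inferInstance, inferInstance,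
    AIC5.isAIC_integralClosure_pi K, ?_⟩
  intro p
  let e : integralClosure A P →+* K p := (Pi.evalRingHom K p).comp (algebraMap (integralClosure A P) P)
  refine ⟨PrimeSpectrum.comap e ⊥, ?_⟩
  rw [← PrimeSpectrum.comap_comp_apply]
  have h1 : e.comp (algebraMap A (integralClosure A P)) = algebraMap A (K p) := rfl
  rw [h1]
  apply PrimeSpectrum.ext
  rw [PrimeSpectrum.comap_asIdeal]
  have h2 : algebraMap A (K p) = (algebraMap p.asIdeal.ResidueField (K p)).comp
    (algebraMap A p.asIdeal.ResidueField) := rfl
  rw [h2]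
  change RingHom.ker _ = _
  rw [RingHom.ker_comp_of_injective _ (algebraMap p.asIdeal.ResidueField (K p)).injective]
  exact Ideal.ker_algebraMap_residueField p.asIdeal

end K3.RigAIC
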