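import Groth.Agent.EtBC.K3.RigPair
import Mathlib.RingTheory.AdicCompletion.Completeness
import Mathlib.RingTheory.AdicCompletion.Algebra

/-!
# The completion of a henselian pair with finitely generated ideal is an `RPair`
-/

set_option autoImplicit false
universe u

namespace K3.RigCompl

open RigPair

variable {R : Type u} [CommRing R] (J : Ideal R)

theorem mem_pow_map_iff (hJ : J.FG) (n : ℕ) (y : AdicCompletion J R) :
    y ∈ (J ^ n).map (algebraMap R (AdicCompletion J R)) ↔ AdicCompletion.evalₐ J n y = 0 := by
  have hker : ((J ^ n).map (algebraMap R (AdicCompletion J R))).restrictScalars R =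
      (J ^ n • ⊤ : Submodule R (AdicCompletion J R)) :=
    (Ideal.smul_top_eq_map _).symm
  rw [← Submodule.restrictScalars_mem R, hker,
    AdicCompletion.pow_smul_top_eq_ker_eval hJ, LinearMap.mem_ker]
  have h : (J ^ n • ⊤ : Ideal R) = J ^ n := by ext x; simp
  constructor
  · intro h0
    have h1 := congrArg (Ideal.quotientEquivAlgOfEq R h) h0
    rw [map_zero] at h1
    exact h1
  · intro h0
    have h1 : Ideal.quotientEquivAlgOfEq R h (AdicCompletion.eval J _ n y) =
      Ideal.quotientEquivAlgOfEq R h 0 := by
      rw [map_zero]; exact h0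
    exact (Ideal.quotientEquivAlgOfEq R h).injective h1

theorem isAdicComplete_map (hJ : J.FG) :
    IsAdicComplete (J.map (algebraMap R (AdicCompletion J R))) (AdicCompletion J R) :=
  (IsAdicComplete.map_algebraMap_iff _ _).mpr (AdicCompletion.isAdicComplete hJ)

theorem evalₐ_algebraMap (n : ℕ) (s : R) :
    AdicCompletion.evalₐ J n (algebraMap R (AdicCompletion J R) s) = Ideal.Quotient.mk _ s :=
  (AdicCompletion.evalₐ J n).commutes s

/-- The completion of a henselian pair with finitely generated ideal. -/
theorem rpair (hJ : J.FG) [h : HenselianRing R J] : RPair (algebraMap R (AdicCompletion J R)) J where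
  fg := hJ
  hens := h
  hens' := by
    have := isAdicComplete_map J hJ
    infer_instance
  surj n x := by
    obtain ⟨s, hs⟩ := Ideal.Quotient.mk_surjective (AdicCompletion.evalₐ J n x)
    refine ⟨s, ?_⟩
    rw [mem_pow_map_iff J hJ, map_sub, evalₐ_algebraMap, ← hs]
    exact sub_self _
  inj n a ha := by
    rw [mem_pow_map_iff J hJ, evalₐ_algebraMap] at ha
    exact Ideal.Quotient.eq_zero_iff_mem.1 ha

end K3.RigCompl
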