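import Groth.Agent.EtBC.K3.RigH0
import Groth.Agent.EtBC.K3.RigCompl
import Groth.Agent.CurvesB.CplMap

/-!
# The statement on clopen subsets for all `RPair`s from the case of completions
-/

set_option autoImplicit false
universe u

open CategoryTheory CategoryTheory.Limits AlgebraicGeometry Opposite

namespace K3.RigClop

open Groth.Agent RigPair RigH0

/-- Bijectivity on clopen subsets. -/
def CB {X' X : Scheme.{u}} (g : X' ⟶ X) : Prop :=
  Function.Bijective (fun V : {V : Set ↥X // IsClopen V} =>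
    (⟨g.base.hom ⁻¹' V.1, V.2.preimage g.base.hom.continuous⟩ : {V' : Set ↥X' // IsClopen V'}))

theorem CB.comp {X Y Z : Scheme.{u}} {g : X ⟶ Y} {h : Y ⟶ Z} (hg : CB g) (hh : CB h) : CB (g ≫ h) :=
  Function.Bijective.comp hg hh

theorem CB.of_comp {X Y Z : Scheme.{u}} {g : X ⟶ Y} {h : Y ⟶ Z} (hg : CB g) (hh : CB (g ≫ h)) : CB h :=
  (Function.Bijective.of_comp_iff' hg _).1 hh

theorem CB.of_isIso {X Y : Scheme.{u}} (g : X ⟶ Y) [IsIso g] : CB g := by
  constructor
  · intro V W hVW
    have h1 : g.base.hom ⁻¹' V.1 = g.base.hom ⁻¹' W.1 := congrArg Subtype.val hVW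
    exact Subtype.ext (g.surjective.preimage_injective h1)
  · intro V
    refine ⟨⟨(inv g).base.hom ⁻¹' V.1, V.2.preimage (inv g).base.hom.continuous⟩, Subtype.ext ?_⟩
    change g.base.hom ⁻¹' ((inv g).base.hom ⁻¹' V.1) = V.1
    have h1 : g ≫ inv g = 𝟙 _ := IsIso.hom_inv_id g
    ext x
    have h2 : (g ≫ inv g) x = x := by rw [h1]; rfl
    rw [Set.mem_preimage, Set.mem_preimage]
    change (inv g) (g x) ∈ V.1 ↔ _
    rw [← Scheme.Hom.comp_apply, h2]

/-- The statement on clopens for completions. -/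
def ClopC : Prop := ∀ (A : Type u) [CommRing A] (I : Ideal A) (_ : I.FG) [HenselianRing A I]
    (U : (Spec (CommRingCat.of A)).Opens) (_ : IsCompact (U : Set (Spec (CommRingCat.of A))))
    (_ : ∀ x : Spec (CommRingCat.of A), x ∉ U → I ≤ x.asIdeal),
    Function.Bijective (fun V : {V : Set ↥U // IsClopen V} =>
      (⟨((Spec.map (CommRingCat.ofHom (algebraMap A (AdicCompletion I A)))) ∣_ U).base.hom ⁻¹' V.1, V.2.preimage ((Spec.map (CommRingCat.ofHom (algebraMap A (AdicCompletion I A)))) ∣_ U).base.hom.continuous⟩ :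
        {V' : Set ↥((Spec.map (CommRingCat.ofHom (algebraMap A (AdicCompletion I A)))) ⁻¹ᵁ U) // IsClopen V'}))

theorem clop_of_clopC (hC : ClopC.{u}) : Clop.{u} := by
  intro A B _ _ φ I hp U hU hUI
  have i1 := hp.hens
  have i2 := hp.hens'
  let J := I.map φ
  have hle : I ≤ J.comap φ := Ideal.le_comap_map
  have hq : ∀ n, Function.Bijective (CurvesB.CplMap.quotMap I J φ hle n) := by
    intro n
    have e1 : J ^ n = (I ^ n).map φ := (Ideal.map_pow _ _ _).symm
    constructor
    · rw [injective_iff_map_eq_zero]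
      intro a ha
      obtain ⟨a, rfl⟩ := Ideal.Quotient.mk_surjective a
      rw [CurvesB.CplMap.quotMap_mk, Ideal.Quotient.eq_zero_iff_mem, e1] at ha
      exact Ideal.Quotient.eq_zero_iff_mem.2 (hp.inj n a ha)
    · intro b
      obtain ⟨b, rfl⟩ := Ideal.Quotient.mk_surjective b
      obtain ⟨a, ha⟩ := hp.surj n b
      refine ⟨Ideal.Quotient.mk _ a, ?_⟩
      rw [CurvesB.CplMap.quotMap_mk]
      rw [← e1] at ha
      exact ((Ideal.Quotient.eq).2 ha).symm
  let e : AdicCompletion I A ≃+* AdicCompletion J B := CurvesB.CplMap.equivOfBijective I J φ hle hq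
  have he : (e : AdicCompletion I A →+* AdicCompletion J B).comp (algebraMap A _) =
      (algebraMap B (AdicCompletion J B)).comp φ :=
    RingHom.ext fun a => CurvesB.CplMap.equivOfBijective_algebraMap I J φ hle hq a
  let f := Spec.map (CommRingCat.ofHom φ)
  let a := Spec.map (CommRingCat.ofHom (algebraMap A (AdicCompletion I A)))
  let b := Spec.map (CommRingCat.ofHom (algebraMap B (AdicCompletion J B)))
  let s := Spec.map (CommRingCat.ofHom (e : AdicCompletion I A →+* AdicCompletion J B))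
  have hs : IsIso s := by
    have : IsIso (CommRingCat.ofHom (e : AdicCompletion I A →+* AdicCompletion J B)) :=
      e.toCommRingCatIso.isIso_hom
    infer_instance
  have hw : b ≫ f = s ≫ a := by
    change Spec.map _ ≫ Spec.map _ = Spec.map _ ≫ Spec.map _
    rw [← Spec.map_comp, ← Spec.map_comp, ← CommRingCat.ofHom_comp, ← CommRingCat.ofHom_comp, he]
  have ha : CB (a ∣_ U) := hC A I hp.fg U hU hUI
  have hb : CB (b ∣_ (f ⁻¹ᵁ U)) := by
    refine hC B J (hp.fg.map _) (f ⁻¹ᵁ U) (f.isCompact_preimage hU) ?_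
    intro x hx
    have h1 := hUI (f x) hx
    rw [Ideal.map_le_iff_le_comap]
    exact h1
  have h1 : CB ((s ≫ a) ∣_ U) := by
    rw [morphismRestrict_comp]
    have h0 : IsIso (s ∣_ (a ⁻¹ᵁ U)) := inferInstance
    exact (@CB.of_isIso _ _ (s ∣_ (a ⁻¹ᵁ U)) h0).comp ha
  have h2 : CB ((b ≫ f) ∣_ U) := by
    rw [hw]
    exact h1
  rw [morphismRestrict_comp] at h2
  exact hb.of_comp h2

end K3.RigClop
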