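import Groth.Agent.EtBC.K3.RigMain
import Groth.Agent.EtBC.K3.RigClop

/-!
# Gabber rigidity for sheaves of sets, from the statement on clopen subsets (`ClopC`, which is S16579)
-/

set_option autoImplicit false
universe u

open CategoryTheory CategoryTheory.Limits AlgebraicGeometry Opposite

namespace K3.RigFinal

open Groth.Agent EtDesc RigPair RigClop RigCompl

/-- Global sections of sheaves of sets (S16581). -/
theorem secPull_bijective (hC : ClopC.{u}) (A : Type u) [CommRing A] (I : Ideal A) (hI : I.FG) [HenselianRing A I]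
    (U : (Spec (CommRingCat.of A)).Opens) (hU : IsCompact (U : Set (Spec (CommRingCat.of A))))
    (hUI : ∀ x : Spec (CommRingCat.of A), x ∉ U → I ≤ x.asIdeal)
    (F : EtDesc.Sh (U : Scheme.{u})) :
    Function.Bijective (EtDesc.secPull ((Spec.map (CommRingCat.ofHom (algebraMap A (AdicCompletion I A)))) ∣_ U) F) :=
  RigH0.bijective_secPull (algebraMap A (AdicCompletion I A)) I (clop_of_clopC hC) (rpair I hI) U hU hUI F

/-- Base change of `j_*` (S16582). -/
theorem baseChange0Sh_isIso (hC : ClopC.{u}) (A : Type u) [CommRing A] (I : Ideal A) (hI : I.FG)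
    [HenselianRing A I]
    (U : (Spec (CommRingCat.of A)).Opens) (hU : IsCompact (U : Set (Spec (CommRingCat.of A))))
    (hUI : ∀ x : Spec (CommRingCat.of A), x ∉ U → I ≤ x.asIdeal)
    (F : EtDesc.Sh (U : Scheme.{u})) :
    IsIso (EtBC.baseChange0Sh U.ι (Spec.map (CommRingCat.ofHom (algebraMap A (AdicCompletion I A)))) ((Spec.map (CommRingCat.ofHom (algebraMap A (AdicCompletion I A)))) ⁻¹ᵁ U).ι ((Spec.map (CommRingCat.ofHom (algebraMap A (AdicCompletion I A)))) ∣_ U)
      (morphismRestrict_ι (Spec.map (CommRingCat.ofHom (algebraMap A (AdicCompletion I A)))) U) F) :=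
  RigMain.isIso_baseChange0Sh (algebraMap A (AdicCompletion I A)) I (clop_of_clopC hC) (rpair I hI) U hU hUI F

end K3.RigFinal
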