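import Groth.Agent.S0526
import Mathlib.RingTheory.TensorProduct.Basic
import Mathlib.RingTheory.Henselian
import Mathlib.RingTheory.IntegralClosure.Algebra.Basic

/-!
# Maps of henselian pairs with the same quotients `A/I^n`

`RPair φ I`: `(A, I)` and `(B, I B)` are henselian pairs, `I` is finitely generated and
`A/I^n ⟶ B/I^n B` is bijective for all `n`. `RPair.tensor`: stable under integral base change `A ⟶ D`.
-/

set_option autoImplicit false
universe u

open TensorProduct

namespace K3.RigPair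

/-- `(A, I) ⟶ (B, I B)` is a map of henselian pairs with `I` finitely generated and `A/I^n = B/I^n B`. -/
structure RPair {A B : Type u} [CommRing A] [CommRing B] (φ : A →+* B) (I : Ideal A) : Prop where
  fg : I.FG
  hens : HenselianRing A I
  hens' : HenselianRing B (I.map φ)
  surj : ∀ (n : ℕ) (b : B), ∃ a : A, b - φ a ∈ (I ^ n).map φ
  inj : ∀ (n : ℕ) (a : A), φ a ∈ (I ^ n).map φ → a ∈ I ^ n

theorem RPair.of_bijective {A B : Type u} [CommRing A] [CommRing B] (φ : A →+* B) (I : Ideal A) (hI : I.FG)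
    (h : HenselianRing A I) (h' : HenselianRing B (I.map φ))
    (hb : ∀ n : ℕ, Function.Bijective (Ideal.quotientMap ((I ^ n).map φ) φ Ideal.le_comap_map :
      A ⧸ I ^ n →+* B ⧸ (I ^ n).map φ)) : RPair φ I where
  fg := hI
  hens := h
  hens' := h'
  surj n b := by
    obtain ⟨a, ha⟩ := (hb n).2 (Ideal.Quotient.mk _ b)
    obtain ⟨a, rfl⟩ := Ideal.Quotient.mk_surjective a
    refine ⟨a, ?_⟩
    rw [Ideal.quotientMap_mk] at ha
    exact (Ideal.Quotient.eq).1 ha.symm
  inj n a ha := by
    have h1 : (Ideal.quotientMap ((I ^ n).map φ) φ Ideal.le_comap_map : A ⧸ I ^ n →+* B ⧸ (I ^ n).map φ)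
        (Ideal.Quotient.mk _ a) = (Ideal.quotientMap ((I ^ n).map φ) φ Ideal.le_comap_map) 0 := by
      rw [Ideal.quotientMap_mk, map_zero]
      exact Ideal.Quotient.eq_zero_iff_mem.2 ha
    exact Ideal.Quotient.eq_zero_iff_mem.1 ((hb n).1 h1)

theorem RPair.bijective {A B : Type u} [CommRing A] [CommRing B] {φ : A →+* B} {I : Ideal A} (h : RPair φ I)
    (n : ℕ) : Function.Bijective (Ideal.quotientMap ((I ^ n).map φ) φ Ideal.le_comap_map :
      A ⧸ I ^ n →+* B ⧸ (I ^ n).map φ) := by
  constructor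
  · rw [injective_iff_map_eq_zero]
    intro a ha
    obtain ⟨a, rfl⟩ := Ideal.Quotient.mk_surjective a
    rw [Ideal.quotientMap_mk, Ideal.Quotient.eq_zero_iff_mem] at ha
    exact Ideal.Quotient.eq_zero_iff_mem.2 (h.inj n a ha)
  · intro b
    obtain ⟨b, rfl⟩ := Ideal.Quotient.mk_surjective b
    obtain ⟨a, ha⟩ := h.surj n b
    refine ⟨Ideal.Quotient.mk _ a, ?_⟩
    rw [Ideal.quotientMap_mk]
    exact ((Ideal.Quotient.eq).2 ha).symm

section Tensor

variable {A B D : Type u} [CommRing A] [CommRing B] [CommRing D] [Algebra A B] [Algebra A D]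

/-- Base change along an integral algebra. -/
theorem RPair.tensor {I : Ideal A} (h : RPair (algebraMap A B) I) [Algebra.IsIntegral A D] :
    RPair (Algebra.TensorProduct.includeRight : D →ₐ[A] B ⊗[A] D).toRingHom (I.map (algebraMap A D)) := by
  let ε₁ : B →+* B ⊗[A] D := algebraMap B (B ⊗[A] D)
  let ε₂ : D →+* B ⊗[A] D := (Algebra.TensorProduct.includeRight : D →ₐ[A] B ⊗[A] D).toRingHom
  have he : ε₂.comp (algebraMap A D) = ε₁.comp (algebraMap A B) := by
    ext a
    exact (Algebra.TensorProduct.includeRight : D →ₐ[A] B ⊗[A] D).commutes a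
  have hJ : ∀ n : ℕ, ((I.map (algebraMap A D)) ^ n).map ε₂ = ((I ^ n).map (algebraMap A B)).map ε₁ := by
    intro n
    rw [← Ideal.map_pow, Ideal.map_map, Ideal.map_map, he]
  have hJ1 : (I.map (algebraMap A D)).map ε₂ = (I.map (algebraMap A B)).map ε₁ := by
    rw [Ideal.map_map, Ideal.map_map, he]
  refine ⟨h.fg.map _, ?_, ?_, ?_, ?_⟩
  · have := h.hens
    exact Groth.Agent.S0526.result A I D
  · change HenselianRing (B ⊗[A] D) ((I.map (algebraMap A D)).map ε₂)
    rw [hJ1]
    have := h.hens'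
    exact Groth.Agent.S0526.result B (I.map (algebraMap A B)) (B ⊗[A] D)
  · intro n e
    change ∃ a, e - ε₂ a ∈ ((I.map (algebraMap A D)) ^ n).map ε₂
    rw [hJ]
    induction e using TensorProduct.induction_on with
    | zero => exact ⟨0, by simp⟩
    | tmul b d =>
      obtain ⟨a, ha⟩ := h.surj n b
      refine ⟨algebraMap A D a * d, ?_⟩
      have e1 : b ⊗ₜ[A] d - ε₂ (algebraMap A D a * d) = ε₁ (b - algebraMap A B a) * ε₂ d := by
        have e2 : b ⊗ₜ[A] d = ε₁ b * ε₂ d := by
          change _ = (b ⊗ₜ[A] (1 : D)) * ((1 : B) ⊗ₜ[A] d)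
          rw [Algebra.TensorProduct.tmul_mul_tmul, mul_one, one_mul]
        have e3 : ε₂ (algebraMap A D a) = ε₁ (algebraMap A B a) := RingHom.congr_fun he a
        rw [e2, map_mul, e3, map_sub, sub_mul]
      rw [e1]
      exact Ideal.mul_mem_right _ _ (Ideal.mem_map_of_mem _ ha)
    | add x y hx hy =>
      obtain ⟨a, ha⟩ := hx
      obtain ⟨b, hb⟩ := hy
      refine ⟨a + b, ?_⟩
      rw [map_add, add_sub_add_comm]
      exact add_mem ha hb
  · intro n d hd
    change ε₂ d ∈ ((I.map (algebraMap A D)) ^ n).map ε₂ at hd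
    -- a retraction modulo `I ^ n`
    let Q := D ⧸ (I.map (algebraMap A D)) ^ n
    let eqv : A ⧸ I ^ n ≃+* B ⧸ (I ^ n).map (algebraMap A B) := RingEquiv.ofBijective _ (h.bijective n)
    have hle : I ^ n ≤ ((I.map (algebraMap A D)) ^ n).comap (algebraMap A D) := by
      rw [← Ideal.map_le_iff_le_comap, Ideal.map_pow]
    let β : B →+* Q := ((Ideal.quotientMap ((I.map (algebraMap A D)) ^ n) (algebraMap A D) hle).comp
      eqv.symm.toRingHom).comp (Ideal.Quotient.mk _)
    have hβ : ∀ a : A, β (algebraMap A B a) = Ideal.Quotient.mk _ (algebraMap A D a) := by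
      intro a
      have h1 : eqv.symm (Ideal.Quotient.mk _ (algebraMap A B a)) = Ideal.Quotient.mk _ a := by
        rw [RingEquiv.symm_apply_eq]
        rfl
      change Ideal.quotientMap _ (algebraMap A D) hle (eqv.symm (Ideal.Quotient.mk _ (algebraMap A B a))) = _
      rw [h1, Ideal.quotientMap_mk]
    let βa : B →ₐ[A] Q := { β with commutes' := fun a => hβ a }
    let ψ : B ⊗[A] D →ₐ[A] Q := Algebra.TensorProduct.lift βa (Ideal.Quotient.mkₐ A _)
      (fun _ _ => Commute.all _ _)
    have h1 : ψ (ε₂ d) = Ideal.Quotient.mk _ d := by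
      change ψ ((1 : B) ⊗ₜ[A] d) = _
      rw [Algebra.TensorProduct.lift_tmul, map_one, one_mul]
      rfl
    have h2 : ((I.map (algebraMap A D)) ^ n).map ε₂ ≤ RingHom.ker ψ.toRingHom := by
      rw [Ideal.map_le_iff_le_comap]
      intro x hx
      change ψ (ε₂ x) = 0
      have h3 : ψ (ε₂ x) = Ideal.Quotient.mk _ x := by
        change ψ ((1 : B) ⊗ₜ[A] x) = _
        rw [Algebra.TensorProduct.lift_tmul, map_one, one_mul]
        rfl
      rw [h3]
      exact Ideal.Quotient.eq_zero_iff_mem.2 hx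
    have h4 : ψ (ε₂ d) = 0 := h2 hd
    rw [h1] at h4
    exact Ideal.Quotient.eq_zero_iff_mem.1 h4

end Tensor

end K3.RigPair
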