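import Groth.Agent.EtBC.K3.RigAIC
import Groth.Agent.EtBC.K3.RigPair
import Groth.Agent.Etbc.H235.DescSec
import Groth.Agent.Etbc.H235.BCSets
import Groth.Agent.Sga4A.BCIntegral

/-!
# From clopen subsets to sections of sheaves of sets, for maps of henselian pairs with the same `A/I^n`
-/

set_option autoImplicit false
universe u

open CategoryTheory CategoryTheory.Limits AlgebraicGeometry Opposite TensorProduct

namespace K3.RigH0

open Groth.Agent Groth.Agent.Flat2E SecConn RigPair RigAIC EtDesc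

/-- The statement on clopens. -/
def Clop : Prop := ∀ {A B : Type u} [CommRing A] [CommRing B] (φ : A →+* B) (I : Ideal A), RPair φ I →
  ∀ U : (Spec (CommRingCat.of A)).Opens, IsCompact (U : Set (Spec (CommRingCat.of A))) →
    (∀ x : Spec (CommRingCat.of A), x ∉ U → I ≤ x.asIdeal) →
    Function.Bijective (fun V : {V : Set ↥U // IsClopen V} =>
      (⟨((Spec.map (CommRingCat.ofHom φ)) ∣_ U).base.hom ⁻¹' V.1,
        V.2.preimage ((Spec.map (CommRingCat.ofHom φ)) ∣_ U).base.hom.continuous⟩ :
        {V' : Set ↥((Spec.map (CommRingCat.ofHom φ)) ⁻¹ᵁ U) // IsClopen V'}))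

/-- On a domain, the inverse image of `U` is connected. -/
theorem isConnected_preimage (hC : Clop.{u}) {A B : Type u} [CommRing A] [IsDomain A] [CommRing B] (φ : A →+* B)
    (I : Ideal A) (hp : RPair φ I) (U : (Spec (CommRingCat.of A)).Opens)
    (hU : IsCompact (U : Set (Spec (CommRingCat.of A))))
    (hUI : ∀ x : Spec (CommRingCat.of A), x ∉ U → I ≤ x.asIdeal) (hne : (U : Set (Spec (CommRingCat.of A))).Nonempty) :
    _root_.IsConnected ((Spec.map (CommRingCat.ofHom φ)) ⁻¹' (U : Set (Spec (CommRingCat.of A)))) := by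
  have hb := hC φ I hp U hU hUI
  have hirr : IrreducibleSpace (Spec (CommRingCat.of A)) :=
    inferInstanceAs (IrreducibleSpace (PrimeSpectrum A))
  have hpre : PreconnectedSpace ↥U := by
    have h1 : IsPreirreducible (U : Set (Spec (CommRingCat.of A))) :=
      (PreirreducibleSpace.isPreirreducible_univ.open_subset U.isOpen (Set.subset_univ _))
    exact isPreconnected_iff_preconnectedSpace.1 h1.isPreconnected
  have hneU : Nonempty ↥U := hne.to_subtype
  rw [isConnected_iff_connectedSpace]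
  change ConnectedSpace ↥((Spec.map (CommRingCat.ofHom φ)) ⁻¹ᵁ U)
  have h2 : PreconnectedSpace ↥((Spec.map (CommRingCat.ofHom φ)) ⁻¹ᵁ U) := by
    rw [preconnectedSpace_iff_clopen]
    intro s hs
    obtain ⟨⟨V, hV⟩, hVs⟩ := hb.2 ⟨s, hs⟩
    have hVs' : ((Spec.map (CommRingCat.ofHom φ)) ∣_ U).base.hom ⁻¹' V = s := congrArg Subtype.val hVs
    rcases isClopen_iff.1 hV with rfl | rfl
    · left
      exact hVs'.symm.trans rfl
    · right
      exact hVs'.symm.trans rfl
  have h3 : Nonempty ↥((Spec.map (CommRingCat.ofHom φ)) ⁻¹ᵁ U) := by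
    by_contra hn
    rw [not_nonempty_iff] at hn
    have h4 := @hb.1 ⟨∅, isClopen_empty⟩ ⟨Set.univ, isClopen_univ⟩ (Subtype.ext (by
      ext y
      exact isEmptyElim y))
    have h5 : (∅ : Set ↥U) = Set.univ := congrArg Subtype.val h4
    exact Set.empty_ne_univ h5
  exact { toPreconnectedSpace := h2, toNonempty := h3 }

section

variable {A B : Type u} [CommRing A] [CommRing B] (φ : A →+* B) (I : Ideal A)

theorem connectedSpace_of_isPullback (hC : Clop.{u}) (hp : RPair φ I) (U : (Spec (CommRingCat.of A)).Opens)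
    (hU : IsCompact (U : Set (Spec (CommRingCat.of A))))
    (hUI : ∀ x : Spec (CommRingCat.of A), x ∉ U → I ≤ x.asIdeal) {D : Type u} [CommRing D] [IsDomain D]
    (δ : A →+* D) (hδ : δ.IsIntegral) {S : Scheme.{u}}
    (s1 : S ⟶ ((Spec.map (CommRingCat.ofHom φ)) ⁻¹ᵁ U).toScheme) (s2 : S ⟶ Spec (CommRingCat.of D))
    (sq : IsPullback s1 s2 (((Spec.map (CommRingCat.ofHom φ)) ⁻¹ᵁ U).ι ≫ Spec.map (CommRingCat.ofHom φ))
      (Spec.map (CommRingCat.ofHom δ))) (hne : ∃ x, Spec.map (CommRingCat.ofHom δ) x ∈ U) :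
    ConnectedSpace S := by
  algebraize [φ, δ]
  have : Algebra.IsIntegral A D := ⟨hδ⟩
  let π := Spec.map (CommRingCat.ofHom φ)
  let ε₂ : D →+* B ⊗[A] D := (Algebra.TensorProduct.includeRight : D →ₐ[A] B ⊗[A] D).toRingHom
  let ε₁ : B →+* B ⊗[A] D := algebraMap B (B ⊗[A] D)
  have hpD : RPair ε₂ (I.map δ) := RPair.tensor (A := A) (B := B) (D := D) hp
  let UD : (Spec (CommRingCat.of D)).Opens := Spec.map (CommRingCat.ofHom δ) ⁻¹ᵁ U
  have hUD : IsCompact (UD : Set (Spec (CommRingCat.of D))) :=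
    (Spec.map (CommRingCat.ofHom δ)).isCompact_preimage hU
  have hUDI : ∀ x : Spec (CommRingCat.of D), x ∉ UD → I.map δ ≤ x.asIdeal := by
    intro x hx
    rw [Ideal.map_le_iff_le_comap]
    exact hUI _ hx
  have hconn := isConnected_preimage hC ε₂ (I.map δ) hpD UD hUD hUDI hne
  -- the square of affine schemes
  have sq0 : IsPullback (Spec.map (CommRingCat.ofHom ε₁)) (Spec.map (CommRingCat.ofHom ε₂))
      (Spec.map (CommRingCat.ofHom φ)) (Spec.map (CommRingCat.ofHom δ)) :=
    isPullback_SpecMap_of_isPushout _ _ _ _ (CommRingCat.isPushout_tensorProduct A B D)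
  have w : (s1 ≫ (π ⁻¹ᵁ U).ι) ≫ Spec.map (CommRingCat.ofHom φ) = s2 ≫ Spec.map (CommRingCat.ofHom δ) := by
    rw [Category.assoc]
    exact sq.w
  let t : S ⟶ Spec (CommRingCat.of (B ⊗[A] D)) := sq0.lift (s1 ≫ (π ⁻¹ᵁ U).ι) s2 w
  have ht1 : t ≫ Spec.map (CommRingCat.ofHom ε₁) = s1 ≫ (π ⁻¹ᵁ U).ι := sq0.lift_fst _ _ _
  have ht2 : t ≫ Spec.map (CommRingCat.ofHom ε₂) = s2 := sq0.lift_snd _ _ _
  have sq1 : IsPullback s1 t (π ⁻¹ᵁ U).ι (Spec.map (CommRingCat.ofHom ε₁)) := by
    refine IsPullback.of_bot (h₁₁ := s1) (v₁₁ := t) (v₁₂ := (π ⁻¹ᵁ U).ι) (h₂₁ := Spec.map (CommRingCat.ofHom ε₁))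
      (v₂₁ := Spec.map (CommRingCat.ofHom ε₂)) (v₂₂ := Spec.map (CommRingCat.ofHom φ))
      (h₃₁ := Spec.map (CommRingCat.ofHom δ)) ?_ ht1.symm sq0
    rw [ht2]
    exact sq
  have hto : IsOpenImmersion t := MorphismProperty.of_isPullback (P := @IsOpenImmersion) sq1 inferInstance
  have hrange : Set.range t = Spec.map (CommRingCat.ofHom ε₂) ⁻¹' (UD : Set _) := by
    have e1 : Set.range t = Spec.map (CommRingCat.ofHom ε₁) ⁻¹' Set.range (π ⁻¹ᵁ U).ι := by
      have e2 : t = sq1.isoPullback.hom ≫ pullback.snd _ _ := (sq1.isoPullback_hom_snd).symm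
      rw [e2, Scheme.Hom.comp_base, TopCat.coe_comp]
      refine (Function.Surjective.range_comp ?_ _).trans (Scheme.Pullback.range_snd _ _)
      exact sq1.isoPullback.hom.surjective
    rw [e1, Scheme.Opens.range_ι]
    ext z
    change Spec.map (CommRingCat.ofHom φ) (Spec.map (CommRingCat.ofHom ε₁) z) ∈ U ↔
      Spec.map (CommRingCat.ofHom δ) (Spec.map (CommRingCat.ofHom ε₂) z) ∈ U
    rw [← Scheme.Hom.comp_apply, ← Scheme.Hom.comp_apply, sq0.w]
  rw [← hrange] at hconn
  have h6 : _root_.IsPreconnected (Set.univ : Set S) := by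
    rw [← t.isOpenEmbedding.isInducing.isPreconnected_image, Set.image_univ]
    exact hconn.isPreconnected
  have h7 : Nonempty S := by
    obtain ⟨_, z, -⟩ := hconn.nonempty
    exact ⟨z⟩
  exact connectedSpace_iff_univ.2 ⟨Set.univ_nonempty, h6⟩

/-- **Sections of sheaves of sets** for a map of henselian pairs with the same `A/I^n`. -/
theorem bijective_secPull (hC : Clop.{u}) (hp : RPair φ I) (U : (Spec (CommRingCat.of A)).Opens)
    (hU : IsCompact (U : Set (Spec (CommRingCat.of A))))
    (hUI : ∀ x : Spec (CommRingCat.of A), x ∉ U → I ≤ x.asIdeal) (F : Sh (U : Scheme.{u})) :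
    Function.Bijective (secPull ((Spec.map (CommRingCat.ofHom φ)) ∣_ U) F) := by
  obtain ⟨R, _, _, hint, haic, hsurj⟩ := exists_aic A
  let δ := algebraMap A R
  have hδ : δ.IsIntegral := algebraMap_isIntegral_iff.2 hint
  let π := Spec.map (CommRingCat.ofHom φ)
  let d := Spec.map (CommRingCat.ofHom δ)
  have : IsIntegralHom d := by
    rw [IsIntegralHom.SpecMap_iff]
    exact hδ
  have : Surjective d := ⟨hsurj⟩
  let h := π ∣_ U
  let p : pullback U.ι d ⟶ U.toScheme := pullback.fst U.ι d
  let g : pullback U.ι d ⟶ Spec (CommRingCat.of R) := pullback.snd U.ι d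
  have hpint : IsIntegralHom p := inferInstance
  have hpsurj : Surjective p := inferInstance
  have sq := IsPullback.of_hasPullback p h
  have hcU : CompactSpace U.toScheme := isCompact_iff_compactSpace.1 hU
  have hX1 : CompactSpace ↥(pullback U.ι d) := QuasiCompact.compactSpace_of_compactSpace p
  have hX2 : QuasiSeparatedSpace ↥(pullback U.ι d) := by
    have : QuasiSeparated g := inferInstance
    exact quasiSeparatedSpace_of_quasiSeparated g
  have hhaff : IsAffineHom h := IsZariskiLocalAtTarget.restrict (P := @IsAffineHom) (f := π) inferInstance U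
  have hY : CompactSpace ↥(pullback p h) := QuasiCompact.compactSpace_of_compactSpace (pullback.fst p h)
  have hZ : ZarSec (pullback U.ι d) := zarSec_of_isOpenImmersion g (zarSec_spec R haic)
  refine Etbc.H235.DescSec.bijective_of_bijective h p (pullback.fst p h) (pullback.snd p h) sq.w
    hpsurj.surj (fun Fb => ?_) (fun Fb => ?_) F
  · refine SecConn.bijective_secPull hZ (pullback.fst p h) (fun x => ?_) Fb
    -- the prime
    let 𝔭 : Ideal R := (g x).asIdeal
    let c : R →+* R ⧸ 𝔭 := Ideal.Quotient.mk 𝔭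
    have hprime : 𝔭.IsPrime := (g x).isPrime
    let S := pullback (pullback.fst p h ≫ g) (Spec.map (CommRingCat.ofHom c))
    have sq1 : IsPullback (pullback.fst (pullback.fst p h ≫ g) (Spec.map (CommRingCat.ofHom c)))
      (pullback.snd (pullback.fst p h ≫ g) (Spec.map (CommRingCat.ofHom c))) (pullback.fst p h ≫ g)
      (Spec.map (CommRingCat.ofHom c)) := IsPullback.of_hasPullback _ _
    have sq2 : IsPullback (pullback.snd p h) (pullback.fst p h ≫ g) (h ≫ U.ι) d :=
      sq.flip.paste_vert (IsPullback.of_hasPullback U.ι d)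
    have sq3 := sq1.paste_horiz sq2
    rw [morphismRestrict_ι] at sq3
    have hrc : Set.range (Spec.map (CommRingCat.ofHom c)) = closure {g x} := by
      have h1 := range_comap_of_surjective _ c Ideal.Quotient.mk_surjective
      rw [Ideal.mk_ker] at h1
      exact h1.trans (PrimeSpectrum.closure_singleton (R := R) (g x)).symm
    have hδc : (c.comp δ).IsIntegral :=
      hδ.trans _ _ (RingHom.isIntegral_of_surjective _ Ideal.Quotient.mk_surjective)
    have hS : ConnectedSpace S := by
      refine connectedSpace_of_isPullback φ I hC hp U hU hUI (c.comp δ) hδc _ _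
        (by rw [CommRingCat.ofHom_comp, Spec.map_comp]; exact sq3) ?_
      obtain ⟨z, hz⟩ : g x ∈ Set.range (Spec.map (CommRingCat.ofHom c)) := by
        rw [hrc]
        exact subset_closure rfl
      refine ⟨z, ?_⟩
      rw [CommRingCat.ofHom_comp, Spec.map_comp, Scheme.Hom.comp_apply, hz]
      have h2 : d (g x) = U.ι (p x) := by
        rw [← Scheme.Hom.comp_apply, ← Scheme.Hom.comp_apply]
        exact congrArg (fun f : pullback U.ι d ⟶ _ => f x) pullback.condition.symm
      change d (g x) ∈ U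
      rw [h2]
      exact (p x).2
    have h3 : (pullback.fst p h) ⁻¹' closure {x} =
        Set.range (pullback.fst (pullback.fst p h ≫ g) (Spec.map (CommRingCat.ofHom c))) := by
      rw [Scheme.Pullback.range_fst, hrc, g.isOpenEmbedding.isInducing.closure_eq_preimage_closure_image,
        Set.image_singleton]
      rfl
    rw [h3]
    exact isConnected_range (Scheme.Hom.continuous _)
  · have := Etbc.H235.BCSets.isIso_baseChange0Sh_of_bcsurj p h (pullback.snd p h) (pullback.fst p h) sq
      (Sga4A.BCIntegral.bcsurj_of_isIntegralHom p) Fb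
    infer_instance

end

end K3.RigH0
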