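import Groth.Agent.EtBC.K3.RigPair
import Groth.Agent.S0427
import Groth.Agent.Proet.WEtaleScheme
import Groth.Agent.Etbc.H184.UnivSubm
import Mathlib.RingTheory.LocalRing.ResidueField.Basic

/-!
# Strict localizations of a map of henselian pairs with the same quotients

`RPair.psi`: for `RPair φ I`, `f = Spec φ` and a geometric point `ξ` of `Spec B` over `V(I)`, the map of
strict localizations `psiHom f ξ` is again an `RPair`.
-/

set_option autoImplicit false
universe u

open CategoryTheory CategoryTheory.Limits AlgebraicGeometry Opposite TensorProduct IsLocalRing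

namespace K3.RigLoc

open Groth.Agent RigPair
open Groth.Agent.EtpbcB.StrictLoc Groth.Agent.EtpbcB.Psi

/-- A henselian local ring is henselian along every ideal contained in the maximal ideal. -/
theorem henselianRing_of_le {A : Type u} [CommRing A] [HenselianLocalRing A] (I : Ideal A)
    (hI : I ≤ maximalIdeal A) : HenselianRing A I where
  jac := by
    rw [Ideal.jacobson, le_sInf_iff]
    rintro J ⟨-, hJ⟩
    exact hI.trans (eq_maximalIdeal hJ).ge
  is_henselian := by
    intro f hf a₀ h₁ h₂
    have hu : IsUnit (f.derivative.eval a₀) := by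
      by_contra h
      have h3 : f.derivative.eval a₀ ∈ maximalIdeal A := h
      obtain ⟨y, hy⟩ := h₂.exists_right_inv
      obtain ⟨z, rfl⟩ := Ideal.Quotient.mk_surjective y
      rw [← map_mul, ← map_one (Ideal.Quotient.mk I), Ideal.Quotient.mk_eq_mk_iff_sub_mem] at hy
      have h4 := hI hy
      have h5 : (1 : A) ∈ maximalIdeal A := by
        have := (maximalIdeal A).sub_mem (Ideal.mul_mem_right z _ h3) h4
        simpa using this
      exact (maximalIdeal.isMaximal A).ne_top ((Ideal.eq_top_iff_one _).mpr h5)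
    obtain ⟨a, ha, haa⟩ := HenselianLocalRing.is_henselian f hf a₀ (hI h₁) hu
    refine ⟨a, ha, ?_⟩
    -- Taylor expansion
    obtain ⟨c, hc⟩ := f.binomExpansion a₀ (a - a₀)
    have h6 : (a₀ + (a - a₀)) = a := by ring
    rw [h6] at hc
    have h7 : f.eval a = 0 := ha
    rw [h7] at hc
    have h8 : (a - a₀) * (f.derivative.eval a₀ + c * (a - a₀)) = - f.eval a₀ := by
      linear_combination -hc
    have h9 : IsUnit (f.derivative.eval a₀ + c * (a - a₀)) := by
      by_contra h
      have h10 : f.derivative.eval a₀ + c * (a - a₀) ∈ maximalIdeal A := h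
      have h11 : f.derivative.eval a₀ ∈ maximalIdeal A := by
        have := (maximalIdeal A).sub_mem h10 (Ideal.mul_mem_left _ c haa)
        simpa using this
      exact h11 hu
    obtain ⟨u, hu'⟩ := h9
    rw [← hu'] at h8
    have h12 : a - a₀ = - f.eval a₀ * ↑u⁻¹ := by
      rw [← h8, mul_assoc, Units.mul_inv, mul_one]
    rw [h12]
    exact Ideal.mul_mem_right _ _ (I.neg_mem h₁)

/-- quotients of henselian local rings -/
theorem henselianLocalRing_quotient (R : Type u) [CommRing R] [HenselianLocalRing R] (J : Ideal R) (hJ : J ≠ ⊤) :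
    HenselianLocalRing (R ⧸ J) := by
  have : Nontrivial (R ⧸ J) := Ideal.Quotient.nontrivial_iff.2 hJ
  have hl : IsLocalRing (R ⧸ J) := IsLocalRing.of_surjective' (Ideal.Quotient.mk J) Ideal.Quotient.mk_surjective
  have hlh : IsLocalHom (Ideal.Quotient.mk J) := Ideal.Quotient.mk_surjective.isLocalHom _
  refine { hl with is_henselian := ?_ }
  intro f hf a₀ h1 h2
  obtain ⟨F, hF, -, hFm⟩ := Polynomial.lifts_and_natDegree_eq_and_monic (f := Ideal.Quotient.mk J) (p := f)
    (by
      rw [Polynomial.mem_lifts]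
      exact Polynomial.map_surjective _ Ideal.Quotient.mk_surjective f) hf
  obtain ⟨b, rfl⟩ := Ideal.Quotient.mk_surjective a₀
  rw [← hF, Polynomial.eval_map_apply] at h1
  rw [← hF, Polynomial.derivative_map, Polynomial.eval_map_apply] at h2
  obtain ⟨a, ha, ha'⟩ := HenselianLocalRing.is_henselian F hFm b
    ((mem_maximalIdeal _).mpr fun hu => (mem_maximalIdeal _).mp h1 (hu.map _))
    (isUnit_of_map_unit (Ideal.Quotient.mk J) _ h2)
  refine ⟨Ideal.Quotient.mk J a, ?_, ?_⟩
  · rw [← hF]
    exact Polynomial.IsRoot.map ha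
  · rw [← map_sub]
    exact (mem_maximalIdeal _).mpr fun hu =>
      (mem_maximalIdeal _).mp ha' (isUnit_of_map_unit (Ideal.Quotient.mk J) _ hu)

/-- The morphism of spectra. -/
noncomputable abbrev SM {A B : Type u} [CommRing A] [CommRing B] (f : A →+* B) :
    Spec (CommRingCat.of B) ⟶ Spec (CommRingCat.of A) := Spec.map (CommRingCat.ofHom f)

theorem SM_comp {A B C : Type u} [CommRing A] [CommRing B] [CommRing C] (f : A →+* B) (g : B →+* C) :
    SM (g.comp f) = SM g ≫ SM f := by
  rw [SM, SM, SM, ← Spec.map_comp]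
  rfl

theorem we_of_bijective {A B : Type u} [CommRing A] [CommRing B] (f : A →+* B) (hf : Function.Bijective f) :
    WeaklyEtale (SM f) := by
  have h1 : IsIso (CommRingCat.ofHom f) := (RingEquiv.ofBijective f hf).toCommRingCatIso.isIso_hom
  infer_instance

theorem we_quot {A S : Type u} [CommRing A] [CommRing S] (s : A →+* S) (hs : WeaklyEtale (SM s)) (J : Ideal A)
    (K : Ideal S) (hK : K = J.map s) (h : J ≤ K.comap s) : WeaklyEtale (SM (Ideal.quotientMap K s h)) := by
  subst hK
  algebraize [s]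
  have h0 := (Proet.WEtaleScheme.weaklyEtale_Spec_iff A S).1 hs
  let e := Algebra.TensorProduct.quotIdealMapEquivQuotTensor S J
  have h1 : Ideal.quotientMap (J.map s) s h =
      (e.symm.toRingEquiv.toRingHom).comp (algebraMap (A ⧸ J) ((A ⧸ J) ⊗[A] S)) := by
    refine RingHom.ext fun a => ?_
    exact (e.symm.commutes a).symm
  rw [h1, SM_comp]
  have h2 := we_of_bijective e.symm.toRingEquiv.toRingHom e.symm.bijective
  have h3 := (Proet.WEtaleScheme.weaklyEtale_Spec_iff (A ⧸ J) ((A ⧸ J) ⊗[A] S)).2 inferInstance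
  have h4 : WeaklyEtale (SM (algebraMap (A ⧸ J) ((A ⧸ J) ⊗[A] S))) := h3
  infer_instance

/-- Olivier's theorem for a ring homomorphism. -/
theorem olivier {S R : Type u} [CommRing S] [CommRing R] [HenselianLocalRing S] [IsSepClosed (ResidueField S)]
    [IsLocalRing R] (ψ : S →+* R) [hl : IsLocalHom ψ] (hψ : WeaklyEtale (SM ψ)) : Function.Bijective ψ := by
  algebraize [ψ]
  have h0 := (Proet.WEtaleScheme.weaklyEtale_Spec_iff S R).1 hψ
  have : IsLocalHom (algebraMap S R) := hl
  exact S0427.result (A := S) (B := R)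

/-- The quotients of a map of strict localizations. -/
theorem bijective_quotient {A B S R : Type u} [CommRing A] [CommRing B] [CommRing S] [CommRing R]
    [HenselianLocalRing S] [IsSepClosed (ResidueField S)] [IsLocalRing R]
    (φ : A →+* B) (s : A →+* S) (r : B →+* R) (ψ : S →+* R) [hl : IsLocalHom ψ] (hc : ψ.comp s = r.comp φ)
    (hs : WeaklyEtale (SM s)) (hr : WeaklyEtale (SM r)) (J : Ideal A) (hJ : J.map s ≤ maximalIdeal S)
    (hb : Function.Bijective (Ideal.quotientMap (J.map φ) φ Ideal.le_comap_map : A ⧸ J →+* B ⧸ J.map φ)) :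
    Function.Bijective (Ideal.quotientMap ((J.map s).map ψ) ψ Ideal.le_comap_map :
      S ⧸ J.map s →+* R ⧸ (J.map s).map ψ) := by
  have hJ' : J.map s ≠ ⊤ := fun h => by
    rw [h, top_le_iff] at hJ
    exact (maximalIdeal.isMaximal S).ne_top hJ
  have hK : (J.map s).map ψ = (J.map φ).map r := by
    rw [Ideal.map_map, Ideal.map_map, hc]
  have hJψ : (J.map s).map ψ ≤ maximalIdeal R :=
    (Ideal.map_mono hJ).trans (((local_hom_TFAE ψ).out 0 2).1 hl)
  have hK' : (J.map s).map ψ ≠ ⊤ := fun h => by
    rw [h, top_le_iff] at hJψ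
    exact (maximalIdeal.isMaximal R).ne_top hJψ
  have i1 : HenselianLocalRing (S ⧸ J.map s) := henselianLocalRing_quotient S _ hJ'
  have i2 : IsLocalHom (Ideal.Quotient.mk (J.map s)) := Ideal.Quotient.mk_surjective.isLocalHom _
  have i3 : IsSepClosed (ResidueField (S ⧸ J.map s)) := by
    let e : ResidueField S →+* ResidueField (S ⧸ J.map s) := ResidueField.map (Ideal.Quotient.mk (J.map s))
    have he : Function.Bijective e := by
      refine ⟨e.injective, fun x => ?_⟩
      obtain ⟨y, rfl⟩ := residue_surjective x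
      obtain ⟨z, rfl⟩ := Ideal.Quotient.mk_surjective y
      exact ⟨residue S z, rfl⟩
    exact Groth.Agent.Hensel.Exist.isSepClosed_of_ringEquiv (RingEquiv.ofBijective e he).symm
  have i4 : Nontrivial (R ⧸ (J.map s).map ψ) := Ideal.Quotient.nontrivial_iff.2 hK'
  have i5 : IsLocalRing (R ⧸ (J.map s).map ψ) :=
    IsLocalRing.of_surjective' (Ideal.Quotient.mk _) Ideal.Quotient.mk_surjective
  have i6 : IsLocalHom (Ideal.Quotient.mk ((J.map s).map ψ)) := Ideal.Quotient.mk_surjective.isLocalHom _
  let ψ' : S ⧸ J.map s →+* R ⧸ (J.map s).map ψ := Ideal.quotientMap ((J.map s).map ψ) ψ Ideal.le_comap_map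
  have i7 : IsLocalHom ψ' := by
    constructor
    intro a ha
    obtain ⟨b, rfl⟩ := Ideal.Quotient.mk_surjective a
    have h3 : ψ' (Ideal.Quotient.mk _ b) = Ideal.Quotient.mk _ (ψ b) := rfl
    rw [h3] at ha
    have h4 := isUnit_of_map_unit ψ b (isUnit_of_map_unit (Ideal.Quotient.mk _) _ ha)
    exact h4.map _
  refine olivier ψ' ?_
  have w1 := we_quot s hs J (J.map s) rfl Ideal.le_comap_map
  have hr' : J.map φ ≤ ((J.map s).map ψ).comap r := by
    rw [hK]
    exact Ideal.le_comap_map
  have w2 := we_quot r hr (J.map φ) ((J.map s).map ψ) hK hr'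
  have w3 := we_of_bijective _ hb
  have e1 : ψ'.comp (Ideal.quotientMap (J.map s) s Ideal.le_comap_map) =
      (Ideal.quotientMap ((J.map s).map ψ) r hr').comp (Ideal.quotientMap (J.map φ) φ Ideal.le_comap_map) := by
    refine Ideal.Quotient.ringHom_ext (RingHom.ext fun a => ?_)
    change Ideal.Quotient.mk _ (ψ (s a)) = Ideal.Quotient.mk _ (r (φ a))
    exact congrArg _ (RingHom.congr_fun hc a)
  have w4 : WeaklyEtale (SM ψ' ≫ SM (Ideal.quotientMap (J.map s) s Ideal.le_comap_map)) := by
    rw [← SM_comp, e1, SM_comp]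
    infer_instance
  exact WeaklyEtale.of_comp _ (SM (Ideal.quotientMap (J.map s) s Ideal.le_comap_map))

theorem of_weaklyEtale {A B S R : Type u} [CommRing A] [CommRing B] [CommRing S] [CommRing R]
    [HenselianLocalRing S] [IsSepClosed (ResidueField S)] [HenselianLocalRing R]
    (φ : A →+* B) (s : A →+* S) (r : B →+* R) (ψ : S →+* R) [hl : IsLocalHom ψ] (hc : ψ.comp s = r.comp φ)
    (hs : WeaklyEtale (SM s)) (hr : WeaklyEtale (SM r)) (I : Ideal A) (hI : I.map s ≤ maximalIdeal S)
    (h : RPair φ I) : RPair ψ (I.map s) := by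
  refine RPair.of_bijective ψ (I.map s) (h.fg.map _) (henselianRing_of_le _ hI) (henselianRing_of_le _ ?_) ?_
  · exact (Ideal.map_mono hI).trans (((local_hom_TFAE ψ).out 0 2).1 hl)
  · intro n
    rcases Nat.eq_zero_or_pos n with rfl | hn
    · have h0 : (I.map s) ^ 0 = ⊤ := by rw [pow_zero, Ideal.one_eq_top]
      have h1 : ((I.map s) ^ 0).map ψ = ⊤ := by rw [h0, Ideal.map_top]
      constructor
      · intro a b _
        obtain ⟨a, rfl⟩ := Ideal.Quotient.mk_surjective a
        obtain ⟨b, rfl⟩ := Ideal.Quotient.mk_surjective b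
        exact Ideal.Quotient.eq.2 (by rw [h0]; trivial)
      · intro b
        obtain ⟨b, rfl⟩ := Ideal.Quotient.mk_surjective b
        exact ⟨0, by
          rw [map_zero]
          exact (Ideal.Quotient.eq_zero_iff_mem.2 (by rw [h1]; trivial)).symm⟩
    · have e1 : (I.map s) ^ n = (I ^ n).map s := (Ideal.map_pow _ _ _).symm
      rw [e1]
      refine bijective_quotient φ s r ψ hc hs hr (I ^ n) ?_ (h.bijective n)
      exact (Ideal.map_mono (Ideal.pow_le_self hn.ne')).trans hI

end K3.RigLoc
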