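import Groth.Agent.EtBC.K3.BCStrictSec
import Groth.Agent.EtpbcB.StalkFieldExt
import Groth.Agent.Etbase.StrictHensPoint
import Groth.Agent.Etbc.H230.Forth
import Groth.Agent.EtpbcB.StrictLocBC

/-!
# Sections of sheaves of sets over strictly henselian local schemes

* `germTop_bijective`: global sections are the germs at a geometric point over the closed point.
* `sb_of_isLocalHom`: a local homomorphism of strictly henselian local rings is bijective on global sections
  of sheaves of sets.
* `SB.of_isPullback`: transport of `SB` along isomorphisms.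
-/

set_option autoImplicit false
universe u
open CategoryTheory CategoryTheory.Limits AlgebraicGeometry Opposite

namespace K3.StrictSec

open Groth.Agent EtDesc
open Groth.Agent.Sga4A.EtStalk
open K3.BCStrictSec (SB)

/-- Transport along integral morphisms in cartesian squares. -/
theorem SB.of_isPullback {X₂ Y₂ X₀ Y₀ : Scheme.{u}} {g₂ : X₂ ⟶ Y₂} {h' : X₂ ⟶ X₀} {h : Y₂ ⟶ Y₀}
    {g₀ : X₀ ⟶ Y₀} [IsIntegralHom h] (sq : IsPullback g₂ h' h g₀) (hb : SB g₀) : SB g₂ := fun F =>
  Etbc.H230.Forth.bijective_secPull_of_isPullback h g₀ h' g₂ sq F (hb _)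

/-- A point over the closed point factors through the residue field. -/
theorem exists_factor {A : Type u} [CommRing A] [IsLocalRing A] {Ω : Type u} [Field Ω]
    (p : Spec (.of Ω) ⟶ Spec (CommRingCat.of A)) (hp : p default = IsLocalRing.closedPoint A) :
    ∃ q : Spec (.of Ω) ⟶ Spec (.of (IsLocalRing.ResidueField A)),
    q ≫ Spec.map (CommRingCat.ofHom (IsLocalRing.residue A)) = p := by
  obtain ⟨c, rfl⟩ := Spec.map_surjective p
  have h1 : ∀ a ∈ IsLocalRing.maximalIdeal A, c.hom a = 0 := by
    intro a ha
    have h2 : PrimeSpectrum.comap c.hom (⊥ : PrimeSpectrum Ω) = IsLocalRing.closedPoint A := by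
      have h3 : (default : ↥(Spec (CommRingCat.of Ω))) = (⊥ : PrimeSpectrum Ω) := Subsingleton.elim _ _
      rw [← hp, h3]
      rfl
    have h4 : a ∈ (PrimeSpectrum.comap c.hom (⊥ : PrimeSpectrum Ω)).asIdeal := by
      rw [h2]
      exact ha
    exact h4
  refine ⟨Spec.map (CommRingCat.ofHom (Ideal.Quotient.lift _ c.hom h1)), ?_⟩
  rw [← Spec.map_comp]
  congr 1

section

variable {A : Type u} [CommRing A] [HenselianLocalRing A] [IsSepClosed (IsLocalRing.ResidueField A)]
  {Ω : Type u} [Field Ω] [IsSepClosed Ω] (p : Spec (.of Ω) ⟶ Spec (CommRingCat.of A))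
  (hp : p default = IsLocalRing.closedPoint A)

include hp in
theorem eq_of_germTop_eq (G : Sh (Spec (CommRingCat.of A))) (s t : sect G (EtCoh.top _))
    (h : germTop G p s = germTop G p t) : s = t := by
  obtain ⟨V, g, m, hm, hg⟩ := (germ_eq_iff G _ _ s t).1 h
  have h0 : m ≫ V.hom = p := by
    have h2 : g.left ≫ (EtCoh.top (Spec (CommRingCat.of A))).hom = V.hom := Over.w g.hom
    rw [← h2, ← Category.assoc, hm, topPt_hom]
  have h1 : V.hom (m default) = IsLocalRing.closedPoint A := by
    rw [← hp, ← h0]
    rfl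
  obtain ⟨c⟩ := EtpbcB.StrictLocBC.exists_section V (m default) h1
  have h2 : c ≫ g = 𝟙 _ := Etbase.StrictHensPoint.hom_top_unique _ _
  have h3 := congrArg (G.obj.map c.op) hg
  have h4 : ∀ x : sect G (EtCoh.top (Spec (CommRingCat.of A))), G.obj.map c.op (G.obj.map g.op x) = x := by
    intro x
    have h5 := congrArg (fun r => r x) (G.obj.map_comp g.op c.op)
    have h6 : g.op ≫ c.op = 𝟙 _ := by rw [← op_comp, h2]; rfl
    rw [h6] at h5
    have h7 : G.obj.map (𝟙 (op (EtCoh.top (Spec (CommRingCat.of A))))) x = x :=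
      congrArg (fun r => r x) (G.obj.map_id _)
    exact h5.symm.trans h7
  rw [h4, h4] at h3
  exact h3

include hp in
theorem exists_germTop (G : Sh (Spec (CommRingCat.of A))) (σ : Stk G p) :
    ∃ s : sect G (EtCoh.top _), germTop G p s = σ := by
  obtain ⟨q, rfl⟩ := exists_factor p hp
  obtain ⟨U, l, hl, t, rfl⟩ := exists_germ G σ
  obtain ⟨t₀, ht₀⟩ := (EtpbcB.StalkFieldExt.bijective_comp
    (Spec.map (CommRingCat.ofHom (IsLocalRing.residue A))) q U).2 (Over.homMk l hl)
  have h1 : q ≫ t₀.left = l := congrArg CommaMorphism.left ht₀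
  obtain ⟨c, hc⟩ := Etbase.StrictHensPoint.exists_section A U t₀
  have h2 : Etbase.StrictHensPoint.pt A ≫ c.left = t₀.left := congrArg CommaMorphism.left hc
  refine ⟨G.obj.map c.op t, ?_⟩
  refine germ_res' G c _ (topPt_hom _) l hl ?_ t
  rw [← h1, ← h2]
  exact Category.assoc _ _ _

/-- Global sections over a strictly henselian local scheme are the germs at a geometric point over the closed
point. -/
theorem germTop_bijective (hp : p default = IsLocalRing.closedPoint A) (G : Sh (Spec (CommRingCat.of A))) :
    Function.Bijective (germTop G p) :=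
  ⟨fun s t h => eq_of_germTop_eq p hp G s t h, fun σ => exists_germTop p hp G σ⟩

end

/-- A local homomorphism of strictly henselian local rings is bijective on global sections of sheaves of
sets. -/
theorem sb_of_isLocalHom {S R : Type u} [CommRing S] [CommRing R] [HenselianLocalRing S]
    [IsSepClosed (IsLocalRing.ResidueField S)] [HenselianLocalRing R]
    [IsSepClosed (IsLocalRing.ResidueField R)] (ψ : S →+* R) [hl : IsLocalHom ψ] :
    SB (Spec.map (CommRingCat.ofHom ψ)) := by
  intro G
  let η := Etbase.StrictHensPoint.pt R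
  have hη : η default = IsLocalRing.closedPoint R := by
    have h0 : ∀ y : PrimeSpectrum (IsLocalRing.ResidueField R),
        PrimeSpectrum.comap (IsLocalRing.residue R) y = IsLocalRing.closedPoint R := by
      intro y
      have h3 : y.asIdeal = ⊥ := y.asIdeal.eq_bot_of_prime
      apply PrimeSpectrum.ext
      rw [PrimeSpectrum.comap_asIdeal, h3]
      exact IsLocalRing.ker_residue (R := R)
    exact h0 (show PrimeSpectrum (IsLocalRing.ResidueField R) from
      (default : ↥(Spec (CommRingCat.of (IsLocalRing.ResidueField R)))))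
  have hp : (η ≫ Spec.map (CommRingCat.ofHom ψ)) default = IsLocalRing.closedPoint S := by
    rw [Scheme.Hom.comp_apply, hη]
    exact IsLocalRing.comap_closedPoint ψ
  have b1 := germTop_bijective (η ≫ Spec.map (CommRingCat.ofHom ψ)) hp G
  have b2 := germTop_bijective η hη ((pullSh (Spec.map (CommRingCat.ofHom ψ))).obj G)
  have e : ∀ s, germTop _ η (secPull (Spec.map (CommRingCat.ofHom ψ)) G s) =
      pullStk' (Spec.map (CommRingCat.ofHom ψ)) G η _ rfl
        (germTop G (η ≫ Spec.map (CommRingCat.ofHom ψ)) s) := fun s => germTop_secPull' _ G s η _ rfl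
  have e' : germTop _ η ∘ secPull (Spec.map (CommRingCat.ofHom ψ)) G =
      pullStk' (Spec.map (CommRingCat.ofHom ψ)) G η _ rfl ∘
        germTop G (η ≫ Spec.map (CommRingCat.ofHom ψ)) := funext e
  rw [← b2.of_comp_iff', e']
  exact (Equiv.bijective _).comp b1

end K3.StrictSec
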