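import Groth.Agent.EtBC.K3.RigH0
import Groth.Agent.EtBC.K3.RigLoc
import Groth.Agent.EtBC.K3.StrictSec

/-!
# Base change of `j_*` for sheaves of sets along a map of henselian pairs with the same `A/I^n`
-/

set_option autoImplicit false
set_option backward.isDefEq.respectTransparency.types false
universe u

open CategoryTheory CategoryTheory.Limits AlgebraicGeometry Opposite TensorProduct IsLocalRing

namespace K3.RigMain

open Groth.Agent EtDesc RigPair RigH0 RigLoc StrictSec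
open K3.BCStrictSec (SB isIso_baseChange0Sh_of_sec)
open Groth.Agent.EtpbcB.StrictLoc Groth.Agent.EtpbcB.Psi
open Groth.Agent.EtpbcB.BCStrict (P isPullback_P)

variable {A B : Type u} [CommRing A] [CommRing B] (φ : A →+* B) (I : Ideal A)

section

variable {Ω : Type u} [Field Ω] [IsSepClosed Ω] (ξ : Spec (CommRingCat.of Ω) ⟶ Spec (CommRingCat.of B))

/-- The ring homomorphism of a strict localization of an affine scheme. -/
noncomputable def baseHom {R : Type u} [CommRing R] (ζ : Spec (CommRingCat.of Ω) ⟶ Spec (CommRingCat.of R)) :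
    R →+* Osh ζ := (Spec.preimage (toBase ζ)).hom

theorem spm_baseHom {R : Type u} [CommRing R] (ζ : Spec (CommRingCat.of Ω) ⟶ Spec (CommRingCat.of R)) :
    Spec.map (CommRingCat.ofHom (baseHom ζ)) = toBase ζ := Spec.map_preimage _

theorem psiHom_baseHom : (psiHom (SM φ) ξ).comp (baseHom (ξ ≫ SM φ)) = (baseHom ξ).comp φ := by
  have h1 := psi_toBase (SM φ) ξ
  rw [← spm_psiHom, ← spm_baseHom, ← spm_baseHom, SM, ← Spec.map_comp, ← Spec.map_comp] at h1
  have h2 := Spec.map_injective h1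
  exact congrArg CommRingCat.Hom.hom h2

theorem toBase_closedPoint {X : Scheme.{u}} (ζ : Spec (CommRingCat.of Ω) ⟶ X) :
    toBase ζ (closedPoint (Osh ζ)) = ζ default := by
  rw [← pt_default, ← Scheme.Hom.comp_apply, pt_toBase]

theorem map_le_maximalIdeal {R : Type u} [CommRing R] (J : Ideal R)
    (ζ : Spec (CommRingCat.of Ω) ⟶ Spec (CommRingCat.of R)) (h : J ≤ (ζ default).asIdeal) :
    J.map (baseHom ζ) ≤ maximalIdeal (Osh ζ) := by
  rw [Ideal.map_le_iff_le_comap]
  have h1 := toBase_closedPoint ζ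
  rw [← spm_baseHom] at h1
  have h2 : (PrimeSpectrum.comap (baseHom ζ) (closedPoint (Osh ζ))).asIdeal = (ζ default).asIdeal :=
    congrArg PrimeSpectrum.asIdeal h1
  rw [← h2] at h
  exact h

/-- The strict localizations over `V(I)`. -/
theorem rpair_psiHom (hp : RPair φ I) (h : I ≤ ((ξ ≫ SM φ) default).asIdeal) :
    RPair (psiHom (SM φ) ξ) (I.map (baseHom (ξ ≫ SM φ))) := by
  have i1 := isLocalHom_psiHom (SM φ) ξ
  refine of_weaklyEtale φ (baseHom (ξ ≫ SM φ)) (baseHom ξ) (psiHom (SM φ) ξ) (psiHom_baseHom φ ξ) ?_ ?_ I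
    (map_le_maximalIdeal I _ h) hp
  · have h1 := Etbc.H184.UnivSubm.weaklyEtale_toBase (ξ ≫ SM φ)
    rw [← spm_baseHom] at h1
    exact h1
  · have h1 := Etbc.H184.UnivSubm.weaklyEtale_toBase ξ
    rw [← spm_baseHom] at h1
    exact h1

/-- The comparison over a point of `U`. -/
theorem sb_of_mem {X S Y T : Scheme.{u}} {f : X ⟶ S} {g : T ⟶ S} {h : Y ⟶ X} {e : Y ⟶ T}
    (H : IsPullback e h g f) [IsOpenImmersion g] (ζ : Spec (CommRingCat.of Ω) ⟶ X)
    (hζ : (ζ ≫ f) default ∈ Set.range g) : SB (P ζ H) := by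
  have h1 : Surjective (pullback.snd g (toBase (ζ ≫ f))) := by
    refine ⟨fun x => ?_⟩
    have h2 : x ⤳ closedPoint (Osh (ζ ≫ f)) := specializes_closedPoint (R := Osh (ζ ≫ f)) x
    have h3 := h2.map (toBase (ζ ≫ f)).continuous
    have h4 : toBase (ζ ≫ f) x ∈ g.opensRange := by
      refine h3.mem_open g.opensRange.2 ?_
      rw [toBase_closedPoint]
      exact hζ
    obtain ⟨t, ht⟩ := h4
    obtain ⟨z, -, hz⟩ := Scheme.Pullback.exists_preimage_pullback (f := g) (g := toBase (ζ ≫ f)) t x ht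
    exact ⟨z, hz⟩
  have h2 : IsIso (pullback.snd g (toBase (ζ ≫ f))) :=
    (isIso_iff_isOpenImmersion_and_surjective _).2 ⟨inferInstance, h1⟩
  have i1 := isLocalHom_psiHom f ζ
  have h3 : SB (psi f ζ) := by
    rw [← spm_psiHom]
    exact sb_of_isLocalHom (psiHom f ζ)
  exact SB.of_isPullback (isPullback_P ζ H).flip h3

end

/-- **Gabber rigidity** for degree zero base change, from the statement on clopen subsets. -/
theorem isIso_baseChange0Sh (hC : Clop.{u}) (hp : RPair φ I) (U : (Spec (CommRingCat.of A)).Opens)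
    (hU : IsCompact (U : Set (Spec (CommRingCat.of A))))
    (hUI : ∀ x : Spec (CommRingCat.of A), x ∉ U → I ≤ x.asIdeal) (F : Sh (U : Scheme.{u})) :
    IsIso (EtBC.baseChange0Sh U.ι (SM φ) ((SM φ) ⁻¹ᵁ U).ι ((SM φ) ∣_ U) (morphismRestrict_ι (SM φ) U) F) := by
  have H := isPullback_morphismRestrict (SM φ) U
  have hq : QuasiCompact U.ι := by
    have : CompactSpace ↥U := isCompact_iff_compactSpace.1 hU
    rw [quasiCompact_iff_compactSpace]
    exact this
  refine isIso_baseChange0Sh_of_sec H (fun Ω _ _ ξ => ?_) F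
  by_cases hx : (ξ ≫ SM φ) default ∈ U
  · exact sb_of_mem H ξ (by rw [Scheme.Opens.range_ι]; exact hx)
  · have hr := rpair_psiHom φ I ξ hp (hUI _ hx)
    let U' : (Spec (Osh (ξ ≫ SM φ))).Opens := toBase (ξ ≫ SM φ) ⁻¹ᵁ U
    have hU' : IsCompact (U' : Set (Spec (Osh (ξ ≫ SM φ)))) :=
      (toBase (ξ ≫ SM φ)).isCompact_preimage hU
    have hUI' : ∀ x : Spec (CommRingCat.of (Osh (ξ ≫ SM φ))), x ∉ U' →
        I.map (baseHom (ξ ≫ SM φ)) ≤ x.asIdeal := by
      intro x hx'
      have h1 := hUI (toBase (ξ ≫ SM φ) x) hx'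
      rw [Ideal.map_le_iff_le_comap]
      rw [← spm_baseHom] at h1
      exact h1
    have hb : SB (Spec.map (CommRingCat.ofHom (psiHom (SM φ) ξ)) ∣_ U') := fun G =>
      bijective_secPull (psiHom (SM φ) ξ) (I.map (baseHom (ξ ≫ SM φ))) hC hr U' hU' hUI' G
    rw [spm_psiHom] at hb
    have sq0 := isPullback_morphismRestrict (psi (SM φ) ξ) U'
    have sq1 := (isPullback_P ξ H).flip
    -- the identification of `U ×_A Spec O^sh` with `U'`
    have hrange : Set.range (pullback.snd U.ι (toBase (ξ ≫ SM φ))) = Set.range U'.ι := by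
      rw [Scheme.Opens.range_ι]
      have h1 := IsOpenImmersion.range_pullbackSnd U.ι (toBase (ξ ≫ SM φ))
      rw [Scheme.Opens.opensRange_ι] at h1
      exact h1
    let k := IsOpenImmersion.isoOfRangeEq (pullback.snd U.ι (toBase (ξ ≫ SM φ))) U'.ι hrange
    have hk : k.hom ≫ U'.ι = pullback.snd U.ι (toBase (ξ ≫ SM φ)) :=
      IsOpenImmersion.isoOfRangeEq_hom_fac _ _ _
    let t : pullback ((SM φ) ⁻¹ᵁ U).ι (toBase ξ) ⟶ (psi (SM φ) ξ ⁻¹ᵁ U').toScheme :=
      sq0.lift (P ξ H ≫ k.hom) (pullback.snd _ _) (by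
        rw [Category.assoc, hk]
        exact sq1.w)
    have ht1 : t ≫ (psi (SM φ) ξ) ∣_ U' = P ξ H ≫ k.hom := sq0.lift_fst _ _ _
    have ht2 : t ≫ (psi (SM φ) ξ ⁻¹ᵁ U').ι = pullback.snd _ _ := sq0.lift_snd _ _ _
    have sq2 : IsPullback (P ξ H) t k.hom ((psi (SM φ) ξ) ∣_ U') := by
      refine (IsPullback.of_right ?_ ht1 sq0.flip).flip
      rw [ht2, hk]
      exact isPullback_P ξ H
    exact SB.of_isPullback sq2 hb

end K3.RigMain
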