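import Groth.Agent.Etbc.H184.FamSh
import Groth.Agent.EtpbcA.SpecTop

/-!
# Global sections of an inverse image, when all point closures have connected inverse image

`exists_res`: let `X` be a quasi-compact quasi-separated scheme on which étale morphisms have sections Zariski
locally through every point, `h : Y ⟶ X` a morphism with `Y` quasi-compact and `h⁻¹ (closure {x})` connected
for every `x`. Then every section of `h^* F` over `Y` comes from a section of `F` over `X`.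
-/

set_option autoImplicit false
universe u

open CategoryTheory CategoryTheory.Limits AlgebraicGeometry Opposite

noncomputable section

namespace K3.SecConn

open EtDesc Groth.Agent
open Groth.Agent.Sga4A.EtStalk (Stk germ germ_eq_iff germ_res germ_res' exists_germ exists_geomPoint)
open Groth.Agent.Etbc.H184.FamSh

/-- Étale morphisms have sections, Zariski locally and through every point. -/
def ZarSec (X : Scheme.{u}) : Prop :=
  ∀ (V : Scheme.{u}) (j : V ⟶ X) (_ : Etale j) (v : V), ∃ (O : X.Opens) (hO : j v ∈ O) (s : O.toScheme ⟶ V),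
    s ≫ j = O.ι ∧ s ⟨j v, hO⟩ = v

variable {X : Scheme.{u}}

/-- An open as an étale scheme. -/
abbrev oEt (O : X.Opens) : X.Etale := Scheme.Etale.mk O.ι

/-- Local sections. -/
structure LS (F : Sh X) where
  /-- the open -/
  O : X.Opens
  /-- the section -/
  t : sect F (oEt O)

variable {F : Sh X}

/-- The germ of a local section. -/
def og (T : LS F) {Ω : Type u} [Field Ω] [IsSepClosed Ω] {ξ : Spec (.of Ω) ⟶ X} (m : Spec (.of Ω) ⟶ T.O.toScheme)
    (hm : m ≫ T.O.ι = ξ) : Stk F ξ := germ F (U := oEt T.O) m hm T.t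

/-- The family of germs of a local section. -/
def ofam (T : LS F) : Fam F T.O.ι := fam (V := oEt T.O) T.t

theorem ofam_apply (T : LS F) {Ω : Type u} [Field Ω] [IsSepClosed Ω] (m : Spec (.of Ω) ⟶ T.O.toScheme)
    (ξ : Spec (.of Ω) ⟶ X) (hm : m ≫ T.O.ι = ξ) : ofam T Ω m ξ hm = og T m hm := rfl

theorem isLoc_ofam (T : LS F) : IsLoc (ofam T) := isLoc_fam (V := oEt T.O) T.t

theorem og_congr (T : LS F) {Ω : Type u} [Field Ω] [IsSepClosed Ω] {ξ : Spec (.of Ω) ⟶ X}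
    {m m' : Spec (.of Ω) ⟶ T.O.toScheme} (e : m = m') (hm : m ≫ T.O.ι = ξ) (hm' : m' ≫ T.O.ι = ξ) :
    og T m hm = og T m' hm' := by subst e; rfl

/-- An element of a stalk is the germ of the local section. -/
def GE (T : LS F) {Ω : Type u} [Field Ω] [IsSepClosed Ω] (ξ : Spec (.of Ω) ⟶ X) (σ : Stk F ξ) : Prop :=
  ∃ (m : Spec (.of Ω) ⟶ T.O.toScheme) (hm : m ≫ T.O.ι = ξ), σ = og T m hm

theorem exists_fac {Ω : Type u} [Field Ω] {S : Scheme.{u}} (O : S.Opens) (l : Spec (.of Ω) ⟶ S)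
    (h : l default ∈ O) : ∃ m : Spec (.of Ω) ⟶ O.toScheme, m ≫ O.ι = l := by
  refine ⟨IsOpenImmersion.lift O.ι l ?_, IsOpenImmersion.lift_fac _ _ _⟩
  rw [Scheme.Opens.range_ι]
  rintro _ ⟨t, rfl⟩
  have : t = default := Subsingleton.elim _ _
  subst this
  exact h

theorem mem_of_fac {Ω : Type u} [Field Ω] {S : Scheme.{u}} (O : S.Opens) {l : Spec (.of Ω) ⟶ S}
    (m : Spec (.of Ω) ⟶ O.toScheme) (h : m ≫ O.ι = l) : l default ∈ O := by
  rw [← h, Scheme.Hom.comp_apply]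
  exact (m default).2

theorem GE.unique {T : LS F} {Ω : Type u} [Field Ω] [IsSepClosed Ω] {ξ : Spec (.of Ω) ⟶ X} {σ σ' : Stk F ξ}
    (h : GE T ξ σ) (h' : GE T ξ σ') : σ = σ' := by
  obtain ⟨m, hm, rfl⟩ := h
  obtain ⟨m', hm', rfl⟩ := h'
  exact og_congr T (by rw [← cancel_mono T.O.ι, hm, hm']) _ _

theorem GE.exists {T : LS F} {Ω : Type u} [Field Ω] [IsSepClosed Ω] (ξ : Spec (.of Ω) ⟶ X)
    (h : ξ default ∈ T.O) : ∃ σ, GE T ξ σ := by
  obtain ⟨m, hm⟩ := exists_fac T.O ξ h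
  exact ⟨_, m, hm, rfl⟩

theorem GE.mem {T : LS F} {Ω : Type u} [Field Ω] [IsSepClosed Ω] {ξ : Spec (.of Ω) ⟶ X} {σ : Stk F ξ}
    (h : GE T ξ σ) : ξ default ∈ T.O := by
  obtain ⟨m, hm, -⟩ := h
  exact mem_of_fac T.O m hm

variable {Z : Scheme.{u}} {q : Z ⟶ X}

/-- The locus where a family is given by a local section. -/
def At (v : Fam F q) (T : LS F) : Set Z :=
  {z | ∃ (Ω : Type u) (_ : Field Ω) (_ : IsSepClosed Ω) (l : Spec (.of Ω) ⟶ Z), l default = z ∧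
    GE T (l ≫ q) (v Ω l (l ≫ q) rfl)}

theorem At_eq_image {v : Fam F q} (hv : IsLoc v) (T : LS F) :
    At v T = (q ⁻¹ᵁ T.O).ι '' agree (v.res (q ⁻¹ᵁ T.O).ι rfl)
      ((ofam T).res (q ∣_ T.O) (morphismRestrict_ι q T.O)) := by
  ext z
  constructor
  · rintro ⟨Ω, _, _, l, rfl, m, hm, e⟩
    have h2 : l default ∈ q ⁻¹ᵁ T.O := mem_of_fac T.O m hm
    obtain ⟨l', hl'⟩ := exists_fac (q ⁻¹ᵁ T.O) l h2
    refine ⟨l' default, ?_, ?_⟩
    · refine (hv.res _ rfl).mem_agree ((isLoc_ofam T).res _ _) l' (ξ := l ≫ q) (by rw [← hl', Category.assoc]) ?_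
      rw [Fam.res_apply, Fam.res_apply, ofam_apply, v.congr hl', e]
      refine og_congr T ?_ _ _
      rw [← cancel_mono T.O.ι, hm, Category.assoc, morphismRestrict_ι, ← Category.assoc, hl']
    · rw [← Scheme.Hom.comp_apply, hl']
  · rintro ⟨z', hz', rfl⟩
    obtain ⟨Ω, _, _, l, rfl⟩ := exists_geomPoint _ z'
    refine ⟨Ω, inferInstance, inferInstance, l ≫ (q ⁻¹ᵁ T.O).ι, rfl, l ≫ q ∣_ T.O, ?_, ?_⟩
    · rw [Category.assoc, morphismRestrict_ι, Category.assoc]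
    · exact hz' Ω l ((l ≫ (q ⁻¹ᵁ T.O).ι) ≫ q) (by rw [Category.assoc]) rfl

theorem isOpen_At {v : Fam F q} (hv : IsLoc v) (T : LS F) : IsOpen (At v T) := by
  rw [At_eq_image hv]
  exact (q ⁻¹ᵁ T.O).ι.isOpenEmbedding.isOpenMap _
    ((hv.res _ _).isOpen_agree ((isLoc_ofam T).res _ _))

theorem mem_At_iff {v : Fam F q} (hv : IsLoc v) (T : LS F) {Ω : Type u} [Field Ω] [IsSepClosed Ω]
    (l : Spec (.of Ω) ⟶ Z) (ξ : Spec (.of Ω) ⟶ X) (h : l ≫ q = ξ) :
    l default ∈ At v T ↔ GE T ξ (v Ω l ξ h) := by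
  subst h
  refine ⟨fun hl => ?_, fun hl => ⟨Ω, inferInstance, inferInstance, l, rfl, hl⟩⟩
  rw [At_eq_image hv] at hl
  obtain ⟨z', hz', hz⟩ := hl
  have h1 : l default ∈ q ⁻¹ᵁ T.O := by
    rw [← hz]
    exact z'.2
  obtain ⟨l', hl'⟩ := exists_fac (q ⁻¹ᵁ T.O) l h1
  have h2 : l' default = z' := by
    apply (q ⁻¹ᵁ T.O).ι.isOpenEmbedding.injective
    rw [← Scheme.Hom.comp_apply, hl', hz]
  have h3 := hz' Ω l' (l ≫ q) (by rw [← hl', Category.assoc]) h2
  rw [Fam.res_apply, Fam.res_apply, v.congr hl'] at h3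
  refine ⟨l' ≫ q ∣_ T.O, ?_, h3⟩
  rw [Category.assoc, morphismRestrict_ι, ← Category.assoc, hl']

theorem At_subset {v : Fam F q} (T : LS F) : At v T ⊆ q ⁻¹' T.O := by
  rintro z ⟨Ω, _, _, l, rfl, h⟩
  exact h.mem

/-- The agreement locus of two local sections. -/
def Agr (T T' : LS F) : Set X := T'.O.ι '' At (ofam T') T

theorem isOpen_Agr (T T' : LS F) : IsOpen (Agr T T') :=
  T'.O.ι.isOpenEmbedding.isOpenMap _ (isOpen_At (isLoc_ofam _) T)

theorem mem_Agr_iff (T T' : LS F) {Ω : Type u} [Field Ω] [IsSepClosed Ω] (ξ : Spec (.of Ω) ⟶ X) :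
    ξ default ∈ Agr T T' ↔ ∃ σ, GE T ξ σ ∧ GE T' ξ σ := by
  constructor
  · rintro ⟨z, hz, e⟩
    obtain ⟨m, hm⟩ := exists_fac T'.O ξ (by rw [← e]; exact z.2)
    have h2 : m default = z := by
      apply T'.O.ι.isOpenEmbedding.injective
      rw [← Scheme.Hom.comp_apply, hm, e]
    rw [← h2] at hz
    have h3 := (mem_At_iff (isLoc_ofam T') T m ξ hm).1 hz
    exact ⟨_, h3, m, hm, rfl⟩
  · rintro ⟨σ, h, m, hm, e⟩
    refine ⟨m default, (mem_At_iff (isLoc_ofam T') T m ξ hm).2 ?_, ?_⟩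
    · rw [ofam_apply, ← e]
      exact h
    · rw [← hm]
      rfl

theorem Agr_symm {T T' : LS F} {x : X} (h : x ∈ Agr T T') : x ∈ Agr T' T := by
  obtain ⟨Ω, _, _, ξ, rfl⟩ := exists_geomPoint X x
  rw [mem_Agr_iff] at h ⊢
  obtain ⟨σ, h1, h2⟩ := h
  exact ⟨σ, h2, h1⟩

theorem Agr_trans {T T' T'' : LS F} {x : X} (h : x ∈ Agr T T') (h' : x ∈ Agr T' T'') : x ∈ Agr T T'' := by
  obtain ⟨Ω, _, _, ξ, rfl⟩ := exists_geomPoint X x
  rw [mem_Agr_iff] at h h' ⊢
  obtain ⟨σ, h1, h2⟩ := h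
  obtain ⟨σ', h3, h4⟩ := h'
  obtain rfl := h2.unique h3
  exact ⟨σ, h1, h4⟩

theorem Agr_self {T : LS F} {x : X} (h : x ∈ T.O) : x ∈ Agr T T := by
  obtain ⟨Ω, _, _, ξ, rfl⟩ := exists_geomPoint X x
  rw [mem_Agr_iff]
  obtain ⟨σ, hσ⟩ := GE.exists ξ h
  exact ⟨σ, hσ, hσ⟩

theorem Agr_left {T T' : LS F} {x : X} (h : x ∈ Agr T T') : x ∈ T.O := by
  obtain ⟨Ω, _, _, ξ, rfl⟩ := exists_geomPoint X x
  rw [mem_Agr_iff] at h
  obtain ⟨σ, h1, h2⟩ := h
  exact h1.mem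

theorem mem_Agr_of_At {v : Fam F q} (hv : IsLoc v) {T T' : LS F} {z : Z} (h : z ∈ At v T) (h' : z ∈ At v T') :
    q z ∈ Agr T T' := by
  obtain ⟨Ω, _, _, l, rfl⟩ := exists_geomPoint Z z
  rw [mem_At_iff hv T l _ rfl] at h
  rw [mem_At_iff hv T' l _ rfl] at h'
  exact (mem_Agr_iff T T' (l ≫ q)).2 ⟨_, h, h'⟩

/-- Every local family is, near every point, given by a local section (on schemes with Zariski local sections
of étale morphisms). -/
theorem exists_At (hX : ZarSec X) {v : Fam F q} (hv : IsLoc v) (z : Z) : ∃ T : LS F, z ∈ At v T := by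
  obtain ⟨W, a, ha, w, V, b, hb, σ, rfl, hσ⟩ := hv z
  obtain ⟨O, hO, s, hs, hs'⟩ := hX V.left V.hom inferInstance (b w)
  have hse : Etale (s ≫ V.hom) := by rw [hs]; infer_instance
  have hse' : Etale s := Etale.of_comp s V.hom
  let g : oEt O ⟶ V := Groth.Agent.EtpbcB.Big.etHom s hs
  refine ⟨⟨O, F.obj.map g.op σ⟩, ?_⟩
  obtain ⟨Ω, _, _, l, hl⟩ := exists_geomPoint W w
  have h0 : (l ≫ a) default = a w := by rw [← hl]; rfl
  rw [← h0, mem_At_iff hv _ (l ≫ a) ((l ≫ a) ≫ q) rfl]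
  have h1 := Fam.congr_fun hσ l (ξ := (l ≫ a) ≫ q) (by rw [Category.assoc])
  rw [Fam.res_apply, Fam.res_apply, fam_apply] at h1
  rw [h1]
  have hv' : s ⟨V.hom (b w), hO⟩ = (l ≫ b) default := by rw [hs', ← hl]; rfl
  obtain ⟨m, hm, -⟩ := Scheme.exists_fac_of_etale_of_isSepClosed s (l ≫ b) _ hv'
  have hm2 : m ≫ O.ι = (l ≫ a) ≫ q := by
    rw [← hs, ← Category.assoc, hm, Category.assoc, hb, Category.assoc]
  exact ⟨m, hm2, (germ_res' F g m hm2 (l ≫ b) _ hm σ).symm⟩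

section Main

variable {Y : Scheme.{u}} {h : Y ⟶ X} {v : Fam F h}

/-- The local section has the right germ at `x`. -/
def Good (v : Fam F h) (T : LS F) (x : X) : Prop :=
  x ∈ T.O ∧ ∀ y : Y, x ⤳ h y → ∀ T' : LS F, y ∈ At v T' → x ∈ Agr T T'

theorem good_of_exists (hX : ZarSec X) (hv : IsLoc v) (hc : ∀ x : X, _root_.IsConnected (h ⁻¹' closure {x}))
    {x : X} {T : LS F} {y : Y} (hy : x ⤳ h y) {T' : LS F} (hT' : y ∈ At v T') (hT : x ∈ Agr T T') :
    Good v T x := by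
  refine ⟨Agr_left hT, fun y₁ hy₁ T₁ hT₁ => ?_⟩
  by_contra hn
  have hpre := (hc x).isPreconnected
  obtain ⟨z, hz, ⟨⟨T₂, h2, h2'⟩, T₃, h3, h3'⟩⟩ := hpre {y | ∃ T', y ∈ At v T' ∧ x ∈ Agr T T'}
    {y | ∃ T', y ∈ At v T' ∧ x ∉ Agr T T'} (by
      have : {y | ∃ T', y ∈ At v T' ∧ x ∈ Agr T T'} = ⋃ (T' : LS F) (_ : x ∈ Agr T T'), At v T' := by
        ext z; simp [and_comm]
      rw [this]
      exact isOpen_iUnion fun T' => isOpen_iUnion fun _ => isOpen_At hv T') (by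
      have : {y | ∃ T', y ∈ At v T' ∧ x ∉ Agr T T'} = ⋃ (T' : LS F) (_ : x ∉ Agr T T'), At v T' := by
        ext z; simp [and_comm]
      rw [this]
      exact isOpen_iUnion fun T' => isOpen_iUnion fun _ => isOpen_At hv T') (by
      intro z _
      obtain ⟨T₂, h2⟩ := exists_At hX hv z
      by_cases h3 : x ∈ Agr T T₂
      · exact Or.inl ⟨T₂, h2, h3⟩
      · exact Or.inr ⟨T₂, h2, h3⟩)
    ⟨y, specializes_iff_mem_closure.1 hy, T', hT', hT⟩ ⟨y₁, specializes_iff_mem_closure.1 hy₁, T₁, hT₁, hn⟩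
  have h4 : x ⤳ h z := specializes_iff_mem_closure.2 hz
  have h5 : x ∈ Agr T₂ T₃ := h4.mem_open (isOpen_Agr T₂ T₃) (mem_Agr_of_At hv h2 h3)
  exact h3' (Agr_trans h2' h5)

theorem exists_good (hX : ZarSec X) (hv : IsLoc v) (hc : ∀ x : X, _root_.IsConnected (h ⁻¹' closure {x})) (x : X) :
    ∃ T : LS F, Good v T x := by
  obtain ⟨y, hy⟩ := (hc x).nonempty
  have hy' : x ⤳ h y := specializes_iff_mem_closure.2 hy
  obtain ⟨T, hT⟩ := exists_At hX hv y
  exact ⟨T, good_of_exists hX hv hc hy' hT (Agr_self (hy'.mem_open T.O.isOpen (At_subset T hT)))⟩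

theorem Good.agr (hX : ZarSec X) (hv : IsLoc v) (hc : ∀ x : X, _root_.IsConnected (h ⁻¹' closure {x})) {x : X}
    {T T' : LS F} (hT : Good v T x) (hT' : Good v T' x) : x ∈ Agr T T' := by
  obtain ⟨y, hy⟩ := (hc x).nonempty
  have hy' : x ⤳ h y := specializes_iff_mem_closure.2 hy
  obtain ⟨T₁, hT₁⟩ := exists_At hX hv y
  exact Agr_trans (hT.2 y hy' T₁ hT₁) (Agr_symm (hT'.2 y hy' T₁ hT₁))

theorem stableUnderGeneralization_good (hX : ZarSec X) (hv : IsLoc v)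
    (hc : ∀ x : X, _root_.IsConnected (h ⁻¹' closure {x})) (T : LS F) :
    StableUnderGeneralization {x | Good v T x} := by
  intro x x' hx hT
  obtain ⟨y, hy⟩ := (hc x).nonempty
  have hy' : x ⤳ h y := specializes_iff_mem_closure.2 hy
  obtain ⟨T₁, hT₁⟩ := exists_At hX hv y
  exact good_of_exists hX hv hc (hx.trans hy') hT₁ (hx.mem_open (isOpen_Agr _ _) (hT.2 y hy' T₁ hT₁))

theorem isOpen_good [CompactSpace X] [QuasiSeparatedSpace X] [CompactSpace Y] (hX : ZarSec X) (hv : IsLoc v)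
    (hc : ∀ x : X, _root_.IsConnected (h ⁻¹' closure {x})) (T : LS F) : IsOpen {x | Good v T x} := by
  rw [← isClosed_compl_iff]
  refine EtpbcA.SpecTop.isClosed_of_constructible_stableUnderSpecialization ?_
    (stableUnderGeneralization_good hX hv hc T).compl
  have h1 : ∀ y : Y, ∃ (T' : LS F) (N : Set Y), IsOpen N ∧ IsCompact N ∧ y ∈ N ∧ N ⊆ At v T' := by
    intro y
    obtain ⟨T', hT'⟩ := exists_At hX hv y
    obtain ⟨N, ⟨hN, hN'⟩, hy, hN''⟩ := (PrespectralSpace.isTopologicalBasis (X := Y)).exists_subset_of_mem_open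
      hT' (isOpen_At hv T')
    exact ⟨T', N, hN, hN', hy, hN''⟩
  choose Ty N hNo hNc hyN hNA using h1
  obtain ⟨t, ht⟩ := isCompact_univ.elim_finite_subcover N hNo (fun y _ => Set.mem_iUnion.2 ⟨y, hyN y⟩)
  have h2 : {x | Good v T x}ᶜ = (T.O : Set X)ᶜ ∪
      ⋃ y ∈ t, ((Agr T (Ty y))ᶜ ∩ {x | (closure {x} ∩ h '' N y).Nonempty}) := by
    ext x
    constructor
    · intro hx
      by_cases hxO : x ∈ T.O
      · right
        have hx' : ¬ ∀ y : Y, x ⤳ h y → ∀ T' : LS F, y ∈ At v T' → x ∈ Agr T T' := fun hh => hx ⟨hxO, hh⟩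
        push Not at hx'
        obtain ⟨y, hy, T', hT', hxT⟩ := hx'
        have hyt := ht (Set.mem_univ y)
        simp only [Set.mem_iUnion] at hyt
        obtain ⟨y₀, hy₀, hyN₀⟩ := hyt
        refine Set.mem_biUnion hy₀ ⟨fun hh => hxT ?_, h y, specializes_iff_mem_closure.1 hy, y, hyN₀, rfl⟩
        exact Agr_trans hh (hy.mem_open (isOpen_Agr _ _) (mem_Agr_of_At hv (hNA y₀ hyN₀) hT'))
      · exact Or.inl hxO
    · rintro (hx | hx) hg
      · exact hx hg.1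
      · simp only [Set.mem_iUnion] at hx
        obtain ⟨y₀, hy₀, hxA, _, hz, y, hyN₀, rfl⟩ := hx
        exact hxA (hg.2 y (specializes_iff_mem_closure.2 hz) _ (hNA y₀ hyN₀))
  rw [h2]
  refine @IsClosed.union _ _ _ (constructibleTopology X) ?_ ?_
  · exact EtpbcA.SpecTop.isClosed_constructible_of_isOpen T.O.isOpen
  · refine @Set.Finite.isClosed_biUnion _ _ (constructibleTopology X) _ _ t.finite_toSet fun y _ => ?_
    refine @IsClosed.inter _ _ _ (constructibleTopology X) ?_ ?_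
    · exact EtpbcA.SpecTop.isClosed_constructible_of_isOpen (isOpen_Agr _ _)
    · exact EtpbcA.SpecTop.isClosed_constructible_generalizations ((hNc y).image h.continuous)

/-- Every section of the inverse image comes from a global section. -/
theorem exists_fam_res [CompactSpace X] [QuasiSeparatedSpace X] [CompactSpace Y] (hX : ZarSec X) (hv : IsLoc v)
    (hc : ∀ x : X, _root_.IsConnected (h ⁻¹' closure {x})) :
    ∃ w : Fam F (𝟙 X), IsLoc w ∧ w.res h (Category.comp_id h) = v := by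
  choose T hT using exists_good hX hv hc
  have hw : ∀ {Ω : Type u} [Field Ω] [IsSepClosed Ω] (ξ : Spec (.of Ω) ⟶ X), ∃ σ, GE (T (ξ default)) ξ σ :=
    fun ξ => GE.exists ξ (hT _).1
  choose σ hσ using @hw
  have key : ∀ {Ω : Type u} [Field Ω] [IsSepClosed Ω] (ξ : Spec (.of Ω) ⟶ X) (T' : LS F),
      Good v T' (ξ default) → GE T' ξ (σ ξ) := by
    intro Ω _ _ ξ T' hT'
    obtain ⟨τ, h1, h2⟩ := (mem_Agr_iff _ _ ξ).1 ((hT (ξ default)).agr hX hv hc hT')
    rwa [← h1.unique (hσ ξ)]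
  refine ⟨fun Ω _ _ l ξ hl => σ ξ, ?_, ?_⟩
  · intro x
    let D : X.Opens := ⟨{x' | Good v (T x) x'}, isOpen_good hX hv hc (T x)⟩
    have hD : D ≤ (T x).O := fun x' hx' => hx'.1
    refine ⟨D.toScheme, D.ι, inferInstance, ⟨x, hT x⟩, oEt (T x).O, X.homOfLE hD, ?_, (T x).t, rfl, ?_⟩
    · change X.homOfLE hD ≫ (T x).O.ι = D.ι ≫ 𝟙 X
      simp
    · ext Ω _ _ l ξ hl
      have hl' : l ≫ D.ι = ξ := by rw [← hl, Category.comp_id]
      have h1 : ξ default ∈ D := mem_of_fac D l hl'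
      have h2 := key ξ (T x) h1
      refine h2.unique ⟨l ≫ X.homOfLE hD, ?_, rfl⟩
      rw [Category.assoc, Scheme.homOfLE_ι, hl']
  · ext Ω _ _ l ξ hl
    rw [Fam.res_apply]
    obtain ⟨T', hT'⟩ := exists_At hX hv (l default)
    have h1 : (T (ξ default)).O = (T (ξ default)).O := rfl
    have hξ : ξ default = h (l default) := by rw [← hl]; rfl
    have h2 : ξ default ∈ Agr (T (ξ default)) T' :=
      (hT (ξ default)).2 (l default) (by rw [hξ]) T' hT'
    obtain ⟨τ, h3, h4⟩ := (mem_Agr_iff _ _ ξ).1 h2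
    rw [← h3.unique (hσ ξ)]
    exact h4.unique ((mem_At_iff hv T' l ξ hl).1 hT')

end Main

/-- **Criterion.** On a quasi-compact quasi-separated scheme `X` such that étale morphisms have sections Zariski
locally through every point: for `h : Y ⟶ X` with `Y` quasi-compact and all `h⁻¹ (closure {x})` connected, the
pullback map on global sections is bijective for every sheaf of sets. -/
theorem bijective_secPull [CompactSpace X] [QuasiSeparatedSpace X] (hX : ZarSec X) {Y : Scheme.{u}}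
    [CompactSpace Y] (h : Y ⟶ X) (hc : ∀ x : X, _root_.IsConnected (h ⁻¹' closure {x})) (F : Sh X) :
    Function.Bijective (secPull h F) := by
  constructor
  · intro s t hst
    refine Groth.Agent.Sga4A.EtStalk.secPull_ext F s t fun Ω _ _ ξ => ?_
    obtain ⟨y, hy⟩ := (hc (ξ default)).nonempty
    have hy' : ξ default ⤳ h y := specializes_iff_mem_closure.2 hy
    obtain ⟨Ω', _, _, η, rfl⟩ := exists_geomPoint Y y
    have h1 := Groth.Agent.Sga4A.EtStalk.germTop_secPull h F s η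
    have h2 := Groth.Agent.Sga4A.EtStalk.germTop_secPull h F t η
    rw [hst, h2] at h1
    have h3 := (Groth.Agent.Sga4A.EtStalk.pullStk h F η).injective h1
    have h4 : (Groth.Agent.Sga4A.EtStalk.topPt (η ≫ h)) default ∈ Groth.Agent.Sga4A.EtStalk.agree F s t :=
      (Groth.Agent.Sga4A.EtStalk.mem_agree_iff' F s t _
        (Groth.Agent.Sga4A.EtStalk.topPt_hom (η ≫ h))).2 h3.symm
    have h5 : (Groth.Agent.Sga4A.EtStalk.topPt ξ) default ∈ Groth.Agent.Sga4A.EtStalk.agree F s t :=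
      Specializes.mem_open (X := X) hy' (Groth.Agent.Sga4A.EtStalk.isOpen_agree F s t) h4
    exact (Groth.Agent.Sga4A.EtStalk.mem_agree_iff' F s t _
        (Groth.Agent.Sga4A.EtStalk.topPt_hom ξ)).1 h5
  · intro s'
    obtain ⟨w, hw, e⟩ := exists_fam_res hX
      (isLoc_ofFam (Groth.Agent.Sga4A.EtStalk.Fam.ofTopSect s')) hc
    obtain ⟨s, hs⟩ := exists_fam (U := EtCoh.top X) w hw
    refine ⟨s, Groth.Agent.Sga4A.EtStalk.secPull_ext _ _ _ fun Ω _ _ η => ?_⟩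
    rw [Groth.Agent.Sga4A.EtStalk.germTop_secPull' h F s η _ rfl,
      ← Groth.Agent.Sga4A.EtStalk.Fam.ofTopSect_val s' η _ rfl]
    congr 1
    have h1 := Fam.congr_fun e η (ξ := η ≫ h) rfl
    have h2 := Fam.congr_fun hs (Groth.Agent.Sga4A.EtStalk.topPt (η ≫ h))
      (Groth.Agent.Sga4A.EtStalk.topPt_hom (η ≫ h))
    exact h2.trans h1

end K3.SecConn
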