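import Groth.Agent.EtpbcA.CdT1
import Groth.Agent.Etrest.RpushSum
import Groth.Agent.Etrest.RAcyc
import Groth.Agent.EtBC.K3.UnbAcyc

/-!
# The sections functors of abelian étale sheaves as a family detecting acyclicity of complexes

* `det`: a complex of abelian étale sheaves is acyclic if its complexes of sections over affine étale schemes are;
* `isZero_rightDerived_sec`: vanishing of the derived functors of sections from vanishing of étale cohomology;
* `locFin`: direct images along a quasi-compact quasi-separated `f : X ⟶ Y` have locally finite cohomological dimension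
  if all quasi-compact quasi-separated étale `X`-schemes have finite cohomological dimension.
-/

set_option autoImplicit false
universe u

open CategoryTheory CategoryTheory.Limits AlgebraicGeometry Opposite

noncomputable section

namespace K3.SecFin
open Groth.Agent Groth.Agent.EtpbcA Groth.Agent.Etrest Groth.Agent.Etbase.CechCartan

variable {X Y : Scheme.{u}}

/-- Sections over an object of the étale site. -/
abbrev sec (U : X.Etale) : EtCoh.Ab X ⥤ AddCommGrpCat.{u + 1} :=
  (sheafSections X.smallEtaleTopology AddCommGrpCat.{u + 1}).obj (op U)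

instance additive_sec (U : X.Etale) : (sec U).Additive where

instance preservesFiniteLimits_sec (U : X.Etale) : PreservesFiniteLimits (sec U) :=
  comp_preservesFiniteLimits (sheafToPresheaf _ _) ((evaluation _ _).obj (op U))

/-- The index set: affine étale schemes. -/
abbrev AffEt (Y : Scheme.{u}) : Type (u + 1) := {V : Y.Etale // IsAffine V.left}

abbrev r (Y : Scheme.{u}) (V : AffEt Y) : EtCoh.Ab Y ⥤ AddCommGrpCat.{u + 1} := sec V.1

/-- Sections over affine étale schemes detect acyclicity. -/
theorem det (L : CochainComplex (EtCoh.Ab Y) ℤ)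
    (h : ∀ V : AffEt Y, HomologicalComplex.Acyclic (((r Y V).mapHomologicalComplex (.up ℤ)).obj L)) :
    L.Acyclic := by
  intro i
  rw [HomologicalComplex.exactAt_iff' _ (i - 1) i (i + 1) (by simp) (by simp),
    ShortComplex.exact_iff_epi_toCycles, Dix.EtaleSieve.epi_iff]
  intro U s x
  obtain ⟨V, g, hV, -, v, hv⟩ := Site0.exists_affine U x
  refine ⟨V, g, ⟨v, hv⟩, ?_⟩
  have h1 := h ⟨V, hV⟩ i
  rw [HomologicalComplex.exactAt_iff' _ (i - 1) i (i + 1) (by simp) (by simp), ShortComplex.ab_exact_iff] at h1
  let S := L.sc' (i - 1) i (i + 1)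
  obtain ⟨y, hy⟩ := h1 (S.iCycles.hom.app (op V) (S.cycles.obj.map g.op s)) (by
    have h2 := congrArg (fun k => k.hom.app (op V)) S.iCycles_g
    exact ConcreteCategory.congr_hom h2 _)
  refine ⟨y, ?_⟩
  apply RpushTors.injective_of_mono S.iCycles V
  have h2 := congrArg (fun k => k.hom.app (op V)) S.toCycles_i
  exact (ConcreteCategory.congr_hom h2 y).trans hy

/-- Vanishing of the derived functors of sections. -/
theorem isZero_rightDerived_sec (U : X.Etale) (F : EtCoh.Ab X) (q : ℕ)
    (h : Subsingleton (EtCoh.H U.left ((EtCoh.pull U.hom).obj F) (q + 1))) :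
    IsZero (((sec U).rightDerived (q + 1)).obj F) := by
  let I := injectiveResolution F
  refine RAcyc.isZero_rightDerived_of_exactAt (sec U) I (q + 1) ?_
  rw [HomologicalComplex.exactAt_iff' _ q (q + 1) (q + 1 + 1) (by simp) (by simp), ShortComplex.ab_exact_iff]
  intro z hz
  exact CdT1.exists_coboundary I U q h z hz

/-- Čech acyclic sheaves are acyclic for sections over quasi-compact quasi-separated étale schemes. -/
theorem isAcyc_sec_of_cechAcyc (U : X.Etale) (hU : CechQC.QC U) (F : EtCoh.Ab X)
    (hF : CechAcyc CechQC.Cov F.obj) : RDer2.IsAcyc (sec U) F := by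
  intro n
  refine RAcyc.isZero_rightDerived_of_class (sec U) (fun F => CechAcyc CechQC.Cov F.obj)
    (fun S hS hI hF => ⟨(CechQC.step hS hI hF).2, ?_⟩) hF (n + 1) (Nat.succ_pos n)
  rw [AddCommGrpCat.epi_iff_surjective]
  exact (CechQC.step hS hI hF).1 U hU

/-- Big direct sums of injectives are Čech acyclic. -/
theorem cechAcyc_sigma {ι : Type (u + 1)} (K : ι → EtCoh.Ab X) (hK : ∀ j, Injective (K j)) :
    CechAcyc CechQC.Cov (∐ K).obj := by
  have h0 := RpushSum.presFinset_ab.{u} ι
  have h1 := RpushSum.hasFinset_ab.{u} ι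
  refine CechQC.cechAcyc_of_isColimit_filtered (J := Finset (Discrete ι))
    (D := CoproductsFromFiniteFiltered.liftToFinsetObj (Discrete.functor K))
    (c := CoproductsFromFiniteFiltered.finiteSubcoproductsCocone K)
    (CoproductsFromFiniteFiltered.isColimitFiniteSubproductsCocone K) ?_
  intro S
  have : Injective ((CoproductsFromFiniteFiltered.liftToFinsetObj (Discrete.functor K)).obj S) :=
    RpushSum.injective_sigma_finite (fun x : S => (Discrete.functor K).obj x.1) (fun x => hK x.1.as)
  exact CechQC.cechAcyc_of_injective _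

variable (f : X ⟶ Y)

/-- Sections of a direct image. -/
theorem push_comp_sec (V : Y.Etale) : EtCoh.push f ⋙ sec V = sec ((EtCoh.bc f).obj V) := rfl

open UnbAcyc

theorem locFin [QuasiCompact f] [QuasiSeparated f]
    (hX : ∀ U : X.Etale, CompactSpace ↥(U.left) → QuasiSeparatedSpace ↥(U.left) →
      ∃ d : ℕ, ∀ (F : EtCoh.Ab U.left) (q : ℕ), d < q → Subsingleton (EtCoh.H U.left F q)) :
    LocFin (EtCoh.push f) (r Y) where
  det := det
  lex V := preservesFiniteLimits_sec ((EtCoh.bc f).obj V.1)
  fin V := by
    have hQC := CechQC.QC.bc f (CechQC.QC.of_isAffine V.1 V.2)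
    obtain ⟨d, hd⟩ := hX ((EtCoh.bc f).obj V.1) hQC.1 hQC.2
    refine ⟨d, fun q hq F => ?_⟩
    obtain ⟨q, rfl⟩ := Nat.exists_eq_succ_of_ne_zero (show q ≠ 0 by omega)
    exact isZero_rightDerived_sec _ F q (hd _ _ hq)

theorem lAcyc_sigma [QuasiCompact f] [QuasiSeparated f] {ι : Type (u + 1)} (K : ι → EtCoh.Ab X)
    (hK : ∀ j, Injective (K j)) : LAcyc (EtCoh.push f) (r Y) (∐ K) := fun V =>
  isAcyc_sec_of_cechAcyc _ (CechQC.QC.bc f (CechQC.QC.of_isAffine V.1 V.2)) _ (cechAcyc_sigma K hK)

end K3.SecFin
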