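import Groth.Agent.Etrest.StrictLocInt
import Groth.Agent.FlatA.UnivHomeo
import Groth.Agent.Etbc.H192.ZeroAcyc

/-!
# Local rings and universal homeomorphisms: auxiliary facts

* `exists_local_model`: an integral bijective scheme over the spectrum of a local ring is the spectrum of a local ring.
* `exists_lift_algClosed`: geometric points lift along integral surjective morphisms.
* `etSubmersive_of_square`.
-/

set_option autoImplicit false
universe u

open TensorProduct IsLocalRing CategoryTheory CategoryTheory.Limits AlgebraicGeometry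

namespace K3.UHModel

open Groth.Agent.Etrest.StrictLoc Groth.Agent.Etrest.StrictLocBC Groth.Agent.Sga4A.EtStalk
  Groth.Agent.Etbc.H192.ZeroAcyc

/-- An integral bijective scheme over the spectrum of a local ring is the spectrum of a local ring. -/
theorem exists_local_model {A : Type u} [CommRing A] [IsLocalRing A] {W : Scheme.{u}}
    (π : W ⟶ Spec (CommRingCat.of A)) [IsIntegralHom π] (hπ : Function.Bijective π) :
    ∃ (A' : Type u) (_ : CommRing A') (_ : IsLocalRing A') (e : Spec (CommRingCat.of A') ≅ W)
      (α : A →+* A') (_ : IsLocalHom α), α.IsIntegral ∧ spm α = e.hom ≫ π := by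
  have : IsAffine W := isAffine_of_isAffineHom π
  let A' : Type u := Γ(W, ⊤)
  let e : Spec (CommRingCat.of A') ≅ W := W.isoSpec.symm
  obtain ⟨α, hα⟩ : ∃ α : A →+* A', spm α = e.hom ≫ π :=
    ⟨(Spec.preimage (e.hom ≫ π)).hom, Spec.map_preimage _⟩
  have hint : α.IsIntegral := by
    have h1 : IsIntegralHom (Spec.map (CommRingCat.ofHom α)) := by
      change IsIntegralHom (spm α)
      rw [hα]; infer_instance
    exact IsIntegralHom.SpecMap_iff.1 h1
  have hbij : Function.Bijective (spm α) := by
    rw [hα]
    have h2 : Function.Bijective (π ∘ e.hom) :=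
      hπ.comp (Scheme.homeoOfIso e).bijective
    exact h2
  have hbij' : Function.Bijective (PrimeSpectrum.comap α) := hbij
  obtain ⟨m, hm⟩ := hbij'.2 (closedPoint A)
  let _ : Algebra A A' := α.toAlgebra
  have : Algebra.IsIntegral A A' := ⟨hint⟩
  have hmax : ∀ M : Ideal A', M.IsMaximal → M = m.asIdeal := by
    intro M hM
    have h1 : (M.comap (algebraMap A A')).IsMaximal :=
      Ideal.isMaximal_comap_of_isIntegral_of_isMaximal M
    have h2 : M.comap (algebraMap A A') = maximalIdeal A := IsLocalRing.eq_maximalIdeal h1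
    have h3 : PrimeSpectrum.comap α ⟨M, hM.isPrime⟩ = PrimeSpectrum.comap α m := by
      rw [hm]
      exact PrimeSpectrum.ext h2
    exact congrArg PrimeSpectrum.asIdeal (hbij'.1 h3)
  have hnt : Nontrivial A' := by
    by_contra hn
    rw [not_nontrivial_iff_subsingleton] at hn
    exact m.isPrime.ne_top (Subsingleton.elim _ _)
  obtain ⟨M, hM⟩ := Ideal.exists_maximal A'
  have hloc : IsLocalRing A' := IsLocalRing.of_unique_max_ideal ⟨M, hM, fun N hN => by
    rw [hmax N hN, hmax M hM]⟩
  refine ⟨A', inferInstance, hloc, e, α, ?_, hint, hα⟩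
  have h4 : (maximalIdeal A').comap α = maximalIdeal A := by
    have h5 : maximalIdeal A' = m.asIdeal := hmax _ inferInstance
    rw [h5]
    exact congrArg PrimeSpectrum.asIdeal hm
  exact ((IsLocalRing.local_hom_TFAE α).out 0 4).2 h4

theorem isLocAt_of_isIso {W : Scheme.{u}} {T : Type u} [CommRing T] [IsLocalRing T]
    (e : Spec (CommRingCat.of T) ≅ W) : IsLocAt e.hom where
  mono := inferInstance
  exists_hom := by
    intro T₁ _ _ t ht
    obtain ⟨φ, hφ⟩ : ∃ φ : T →+* T₁, spm φ = t ≫ e.inv :=
      ⟨(Spec.preimage (t ≫ e.inv)).hom, Spec.map_preimage _⟩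
    refine ⟨φ, ?_, by rw [hφ, Category.assoc, e.inv_hom_id, Category.comp_id]⟩
    have h1 : (spm φ) (closedPoint T₁) = closedPoint T := by
      rw [hφ]
      change e.inv (t (closedPoint T₁)) = closedPoint T
      rw [ht]
      change (e.hom ≫ e.inv) (closedPoint T) = closedPoint T
      rw [e.hom_inv_id]
      rfl
    have h2 : (maximalIdeal T₁).comap φ = maximalIdeal T := congrArg PrimeSpectrum.asIdeal h1
    exact ((IsLocalRing.local_hom_TFAE φ).out 0 4).2 h2

/-- Extension of geometric points along an integral surjective morphism to an affine scheme. -/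
theorem exists_lift_algClosed {A : Type u} [CommRing A] {W : Scheme.{u}}
    (π : W ⟶ Spec (CommRingCat.of A)) [IsIntegralHom π] [Surjective π] (Ω : Type u) [Field Ω] [IsAlgClosed Ω]
    (s : Spec (CommRingCat.of Ω) ⟶ Spec (CommRingCat.of A)) :
    ∃ s' : Spec (CommRingCat.of Ω) ⟶ W, s' ≫ π = s := by
  have : IsAffine W := isAffine_of_isAffineHom π
  let A' : Type u := Γ(W, ⊤)
  let e : Spec (CommRingCat.of A') ≅ W := W.isoSpec.symm
  obtain ⟨α, hα⟩ : ∃ α : A →+* A', spm α = e.hom ≫ π :=
    ⟨(Spec.preimage (e.hom ≫ π)).hom, Spec.map_preimage _⟩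
  have hint : α.IsIntegral := by
    have h1 : IsIntegralHom (Spec.map (CommRingCat.ofHom α)) := by
      change IsIntegralHom (spm α)
      rw [hα]; infer_instance
    exact IsIntegralHom.SpecMap_iff.1 h1
  have hsurj : Function.Surjective (spm α) := by
    have h2 : Surjective (spm α) := by rw [hα]; infer_instance
    exact h2.surj
  obtain ⟨ψ, hψ⟩ : ∃ ψ : A →+* Ω, spm ψ = s := ⟨(Spec.preimage s).hom, Spec.map_preimage _⟩
  obtain ⟨q, hq⟩ := hsurj (⟨RingHom.ker ψ, RingHom.ker_isPrime ψ⟩ : PrimeSpectrum A)
  let Q : Ideal A' := PrimeSpectrum.asIdeal q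
  have hQp : Q.IsPrime := PrimeSpectrum.isPrime q
  have hQ : Q.comap α = RingHom.ker ψ := congrArg PrimeSpectrum.asIdeal hq
  let _ : Algebra A A' := α.toAlgebra
  have : Algebra.IsIntegral A A' := ⟨hint⟩
  set P := RingHom.ker ψ with hP
  have hPp : P.IsPrime := RingHom.ker_isPrime ψ
  have : Q.LiesOver P := ⟨hQ.symm⟩
  let _ : Algebra (A ⧸ P) Ω := (Ideal.Quotient.lift P ψ (fun _ h => h)).toAlgebra
  have h1 : FaithfulSMul (A ⧸ P) Ω := by
    rw [faithfulSMul_iff_algebraMap_injective]
    exact RingHom.lift_injective_of_ker_le_ideal P (fun _ h => h) le_rfl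
  have h2 : Algebra.IsIntegral (A ⧸ P) (A' ⧸ Q) := inferInstance
  have h3 : Algebra.IsAlgebraic (A ⧸ P) (A' ⧸ Q) := inferInstance
  let g : (A' ⧸ Q) →ₐ[A ⧸ P] Ω := IsAlgClosed.lift
  let g' : A' →+* Ω := g.toRingHom.comp (Ideal.Quotient.mk Q)
  have hg' : g'.comp α = ψ := by
    refine RingHom.ext fun a => ?_
    change g (Ideal.Quotient.mk Q (algebraMap A A' a)) = ψ a
    have : Ideal.Quotient.mk Q (algebraMap A A' a) =
        algebraMap (A ⧸ P) (A' ⧸ Q) (Ideal.Quotient.mk P a) := rfl
    rw [this, AlgHom.commutes]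
    rfl
  refine ⟨spm g' ≫ e.hom, ?_⟩
  rw [Category.assoc, ← hα, ← spm_comp, hg', hψ]

/-- A morphism is submersive after étale base change if it is dominated by a composite of a faithfully flat
quasi-compact morphism and a universally closed surjective one. -/
theorem etSubmersive_of_square {D W T Y : Scheme.{u}} (d : D ⟶ W) (g : W ⟶ Y) (e : D ⟶ T) (t : T ⟶ Y)
    (h : d ≫ g = e ≫ t) [Flat e] [QuasiCompact e] [Surjective e] [Surjective t] [UniversallyClosed t] :
    EtSubmersive g := by
  intro U
  let tU : pullback U.hom t ⟶ U.left := pullback.fst U.hom t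
  let eU : pullback (pullback.snd U.hom t) e ⟶ pullback U.hom t := pullback.fst _ _
  have q1 : Topology.IsQuotientMap tU := by
    have h1 : Surjective tU := inferInstance
    have h2 : UniversallyClosed tU := inferInstance
    exact (tU.isClosedMap).isQuotientMap tU.continuous tU.surjective
  have q2 : Topology.IsQuotientMap eU := by
    have h1 : Flat eU := inferInstance
    have h2 : QuasiCompact eU := inferInstance
    have h3 : Surjective eU := inferInstance
    exact Flat.isQuotientMap_of_surjective eU
  have q3 := q1.comp q2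
  let dU : pullback (pullback.snd U.hom t) e ⟶ ((EtCoh.bc g).obj U).left :=
    pullback.lift (eU ≫ tU) (pullback.snd _ _ ≫ d) (by
      change (pullback.fst _ _ ≫ pullback.fst U.hom t) ≫ U.hom = _
      rw [Category.assoc, Category.assoc, pullback.condition, h, pullback.condition_assoc])
  have h4 : dU ≫ bcFst g U = eU ≫ tU := pullback.lift_fst _ _ _
  have h5 : (bcFst g U) ∘ dU = tU ∘ eU := by
    have := congrArg (fun k : pullback (pullback.snd U.hom t) e ⟶ U.left => (k : _ → _)) h4
    exact this
  rw [← h5] at q3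
  exact Topology.IsQuotientMap.of_comp dU.continuous (bcFst g U).continuous q3

end K3.UHModel
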