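import Groth.Agent.EtBC.K3.UnbExt
import Groth.Agent.EtBC.K3.BcModMap

/-!
# Derived base change and the derived adjunction unit for sheaves of modules: from bounded below to unbounded

* `isIso_bcD_of_plus`: if `Rf_*`, `Rf'_*` preserve countable direct sums and base change holds at bounded below
  complexes of injectives, it holds at all objects of the unbounded derived category;
* `isIso_unit_of_plus`: the same for the unit of `p^* ⊣ Rp_*`.
-/

set_option autoImplicit false
universe u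

open CategoryTheory CategoryTheory.Limits Opposite AlgebraicGeometry

attribute [local instance] HasDerivedCategory.standard

noncomputable section
namespace K3.UnbBc

open Groth.Agent Groth.Agent.Etrest.RDer2 Groth.Agent.Etrest.RDer3 Groth.Agent.Etrest.RDer4
  Groth.Agent.Etsix.H627.BcModAb Groth.Agent.Etrest.ModAb Groth.Agent.Sga4h.BidLimAb
open Groth.Agent.Etbc.H180 UnbAcyc ModFin BcModMap UnbExt Groth.Agent.PerfC.IsoLocus

variable (Λ : Type (u + 1)) [CommRing Λ]

instance hasCountable (X : Scheme.{u}) : HasColimitsOfShape (Discrete ℕ) (EtModW.Mod Λ X) :=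
  have : HasColimitsOfShape (Discrete ℕ) (ModuleCat.{u + 1} Λ) := inferInstance
  Sheaf.instHasColimitsOfShape

instance hasExactCountable (X : Scheme.{u}) : HasExactColimitsOfShape (Discrete ℕ) (EtModW.Mod Λ X) := by
  have h : HasExactColimitsOfShape (Discrete (ULift.{u + 1} ℕ)) (EtModW.Mod Λ X) := inferInstance
  exact HasExactColimitsOfShape.of_domain_equivalence _ (Discrete.equivalence (Equiv.ulift.{u + 1, 0} (α := ℕ)))

instance hasSeq (X : Scheme.{u}) : HasColimitsOfShape ℕ (EtModW.Mod Λ X) :=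
  have : HasColimitsOfShape ℕ (ModuleCat.{u + 1} Λ) := inferInstance
  Sheaf.instHasColimitsOfShape

instance hasExactSeq (X : Scheme.{u}) : HasExactColimitsOfShape ℕ (EtModW.Mod Λ X) := by
  have h0 : HasFilteredColimitsOfSize.{u + 1, u + 1} (EtModW.Mod Λ X) := inferInstance
  have h1 : AB5OfSize.{u + 1, u + 1} (EtModW.Mod Λ X) := inferInstance
  have h2 : HasFilteredColimitsOfSize.{0, 0} (EtModW.Mod Λ X) := hasFilteredColimitsOfSize_of_univLE.{0}
  have h : AB5OfSize.{0, 0} (EtModW.Mod Λ X) := AB5OfSize_of_univLE.{0, 0, u + 1, u + 1, u + 1, u + 2} (EtModW.Mod Λ X)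
  exact AB5OfSize.ofShape ℕ

section pull

variable {X Y : Scheme.{u}} (g : X ⟶ Y) [PreservesFiniteLimits (EtModW.pull Λ g)]

instance isLeftAdjoint_pullModD : (EtModW.pull Λ g).mapDerivedCategory.IsLeftAdjoint :=
  (dAdj (pullPushAdj Λ g)).isLeftAdjoint

end pull

variable {X Y X' Y' : Scheme.{u}} {f : X ⟶ Y} {g : Y' ⟶ Y} {f' : X' ⟶ Y'}
  {g' : X' ⟶ X} (w : g' ≫ f = f' ≫ g)

theorem preservesCountable {C D : Type*} [Category* C] [Category* D] (F : C ⥤ D)
    (h : PreservesColimitsOfShape (Discrete (ULift.{u + 1} ℕ)) F) : PreservesColimitsOfShape (Discrete ℕ) F :=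
  preservesColimitsOfShape_of_equiv (Discrete.equivalence Equiv.ulift) F

theorem isIso_bcD_of_plus [PreservesFiniteLimits (EtModW.pull Λ g)] [PreservesFiniteLimits (EtModW.pull Λ g')]
    [PreservesColimitsOfShape (Discrete ℕ) (TR (EtModW.push Λ f))]
    [PreservesColimitsOfShape (Discrete ℕ) (TR (EtModW.push Λ f'))]
    (h : ∀ (T : CochainComplex (EtModW.Mod Λ X) ℤ) (a : ℤ), T.IsStrictlyGE a → (∀ i, Injective (T.X i)) →
      IsIso ((bcD (bcN (Λ := Λ) w)).app (DerivedCategory.Q.obj T)))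
    (K : EtModD.D Λ X) : IsIso ((bcD (bcN (Λ := Λ) w)).app K) := by
  refine isIso_app_of_plus (IsTriang.mk' _) (IsTriang.mk' _) (bcD (bcN (Λ := Λ) w)) (fun M a hM => ?_) K
  obtain ⟨I, i, hi, hI, hIa, -⟩ := exists_injRes M a
  exact isIso_bcD_of_iso _ (asIso (DerivedCategory.Q.map i)).symm (h I a hIa hI)

theorem isIso_unit_of_plus (p : X ⟶ Y) [PreservesFiniteLimits (EtModW.pull Λ p)]
    [PreservesColimitsOfShape (Discrete ℕ) (TR (EtModW.push Λ p))]
    (h0 : ∀ F : EtModW.Mod Λ Y, IsIso ((pullPushAdj Λ p).unit.app F))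
    (h1 : ∀ F : EtModW.Mod Λ Y, IsAcyc (EtModW.push Λ p) ((EtModW.pull Λ p).obj F))
    (K : EtModD.D Λ Y) : IsIso ((dAdj (pullPushAdj Λ p)).unit.app K) := by
  refine isIso_app_of_plus IsTriang.id (IsTriang.mk' _) (dAdj (pullPushAdj Λ p)).unit (fun M a hM => ?_) K
  have e1 := dAdj_unit (pullPushAdj Λ p) M
  have e2 : IsIso ((unitQ (EtModW.push Λ p)).app (((EtModW.pull Λ p).mapHomologicalComplex (.up ℤ)).obj M)) :=
    isIso_unitQ_of_isAcyc _ _ a fun i => h1 (M.X i)
  have e3 : IsIso ((Dcoh.DerAdj.adjCx (pullPushAdj Λ p) (.up ℤ)).unit.app M) := by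
    have : ∀ i, IsIso (((Dcoh.DerAdj.adjCx (pullPushAdj Λ p) (.up ℤ)).unit.app M).f i) := fun i => h0 (M.X i)
    exact HomologicalComplex.Hom.isIso_of_components _
  have e4 : IsIso ((dAdj (pullPushAdj Λ p)).unit.app (DerivedCategory.Q.obj M) ≫
      (TR (EtModW.push Λ p)).map ((EtModW.pull Λ p).mapDerivedCategoryFactors.hom.app M)) := by
    rw [e1]
    exact IsIso.comp_isIso' inferInstance e2
  exact IsIso.of_isIso_comp_right _
    ((TR (EtModW.push Λ p)).map ((EtModW.pull Λ p).mapDerivedCategoryFactors.hom.app M))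

end K3.UnbBc
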