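import Groth.Agent.Dcoh.Sigma
import Groth.Agent.S0985
import Groth.Agent.PerfC.IsoLocus
import Groth.Agent.PerfB.CoprodDerived

/-!
# Extension from bounded below to unbounded complexes

`isIso_app_of_plus`: a natural transformation between triangulated functors `D(A) ⥤ D'` preserving countable
coproducts, which is an isomorphism on bounded below objects, is an isomorphism (for `A` abelian with exact countable
coproducts and exact sequential colimits): every complex is the homotopy colimit of its stupid truncations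
`σ_{≥ -n} K`.  No compatibility with the shifts is assumed.
-/

set_option autoImplicit false
universe w w' v v' u u'
open CategoryTheory CategoryTheory.Limits CategoryTheory.Pretriangulated

noncomputable section
namespace K3.UnbExt
open Groth.Agent.PerfC.IsoLocus Groth.Agent.Dcoh.Sigma Groth.Agent.PerfB.CoprodDerived

variable {A : Type u} [Category.{v} A] [Abelian A] [HasDerivedCategory.{w} A]
  [HasColimitsOfShape ℕ A] [HasExactColimitsOfShape ℕ A]
  [HasCoproductsOfShape ℕ A] [HasExactColimitsOfShape (Discrete ℕ) A]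
  {D : Type u'} [Category.{v'} D] [HasZeroObject D] [HasShift D ℤ] [Preadditive D]
  [∀ n : ℤ, (shiftFunctor D n).Additive] [Pretriangulated D]
  {F F' : DerivedCategory A ⥤ D}

/-- Every complex is the homotopy colimit of its stupid truncations. -/
theorem exists_triangle (M : CochainComplex A ℤ) [HasColimitsOfShape (Discrete ℕ) (DerivedCategory A)] :
    ∃ T ∈ distTriang (DerivedCategory A),
      T.obj₁ = (∐ fun n : ℕ => DerivedCategory.Q.obj (sig M (0 + 1 - (n : ℤ)))) ∧
      T.obj₂ = (∐ fun n : ℕ => DerivedCategory.Q.obj (sig M (0 + 1 - (n : ℤ)))) ∧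
      Nonempty (T.obj₃ ≅ DerivedCategory.Q.obj M) := by
  let L := sigSeq M 0
  have hQ : PreservesColimit (Discrete.functor L.obj) (DerivedCategory.Q (C := A)) :=
    preservesColimit_of_preserves_colimit_cocone (coproductIsCoproduct L.obj)
      ((isColimitMapCoconeCofanMkEquiv DerivedCategory.Q L.obj (Sigma.ι L.obj)).symm (isColimitQCofan L.obj))
  obtain ⟨δ, hδ⟩ := Groth.Agent.S0985.result L
  let e : colimit L ≅ M := (colimit.isColimit L).coconePointUniqueUpToIso (isColimitSigCocone M 0)
  exact ⟨_, hδ, rfl, rfl, ⟨DerivedCategory.Q.mapIso e⟩⟩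

theorem isIso_app_of_plus (hF : IsTriang F) (hF' : IsTriang F') (τ : F ⟶ F')
    [HasColimitsOfShape (Discrete ℕ) (DerivedCategory A)]
    [PreservesColimitsOfShape (Discrete ℕ) F] [PreservesColimitsOfShape (Discrete ℕ) F']
    (h : ∀ (M : CochainComplex A ℤ) (a : ℤ), M.IsStrictlyGE a → IsIso (τ.app (DerivedCategory.Q.obj M)))
    (K : DerivedCategory A) : IsIso (τ.app K) := by
  have hT := isoLocus_isTriangulated hF hF' τ
  obtain ⟨M, ⟨e⟩⟩ : ∃ M : CochainComplex A ℤ, Nonempty (DerivedCategory.Q.obj M ≅ K) :=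
    ⟨_, ⟨DerivedCategory.Q.objObjPreimageIso K⟩⟩
  have hS : ∀ n : ℕ, isoLocus τ (DerivedCategory.Q.obj (sig M (0 + 1 - (n : ℤ)))) := by
    intro n k
    have hGE : (sig M (0 + 1 - (n : ℤ))).IsStrictlyGE (0 + 1 - (n : ℤ)) :=
      (CochainComplex.isStrictlyGE_iff _ _).2 fun i hi => isZero_sig_X M (by omega)
    have h1 := CochainComplex.isStrictlyGE_shift (sig M (0 + 1 - (n : ℤ))) (0 + 1 - (n : ℤ)) k
      (0 + 1 - (n : ℤ) - k) (by omega)
    have h2 := h _ _ h1
    exact (NatTrans.isIso_app_iff_of_iso τ ((DerivedCategory.Q.commShiftIso k).app _)).1 h2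
  have hC : isoLocus τ (∐ fun n : ℕ => DerivedCategory.Q.obj (sig M (0 + 1 - (n : ℤ)))) :=
    isoLocus_prop_of_isColimit τ (Cofan.mk _ _) (coproductIsCoproduct _) hS
  obtain ⟨T, hd, ea, eb, ⟨e'⟩⟩ := exists_triangle M
  have h3 : isoLocus τ T.obj₃ :=
    (isoLocus τ).ext_of_isTriangulatedClosed₃ _ hd (by rw [ea]; exact hC) (by rw [eb]; exact hC)
  exact isIso_app τ ((isoLocus τ).prop_of_iso (e' ≪≫ e) h3)

end K3.UnbExt
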